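import Cfsg.Agent.Base

/-!
# Quasisimple groups and components: basic API

No finiteness is needed in this file.
-/

set_option autoImplicit false

namespace CL.Sig

open Cfsg Subgroup

section quasisimple

variable {H H' : Type*} [Group H] [Group H']

/-- If `N ⊔ Z(H) = ⊤` with `N` normal, then `H' ≤ N`. -/
theorem commutator_le_of_sup_center_eq_top {N : Subgroup H} [N.Normal]
    (h : N ⊔ center H = ⊤) : _root_.commutator H ≤ N :=
  Subgroup.Normal.commutator_le_of_self_sup_commutative_eq_top h inferInstance

theorem isQuasisimple_iff : IsQuasisimple H ↔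
    Group.IsPerfect H ∧ Nontrivial H ∧ ∀ N : Subgroup H, N.Normal → N = ⊤ ∨ N ≤ center H := by
  constructor
  · rintro ⟨hp, hs⟩
    refine ⟨hp, ?_, fun N hN => ?_⟩
    · exact (QuotientGroup.mk'_surjective (center H)).nontrivial
    · rcases (hN.map (QuotientGroup.mk' (center H))
        (QuotientGroup.mk'_surjective _)).eq_bot_or_eq_top with h | h
      · right
        rwa [Subgroup.map_eq_bot_iff, QuotientGroup.ker_mk'] at h
      · left
        have h2 : N ⊔ center H = ⊤ := by
          have := congrArg (comap (QuotientGroup.mk' (center H))) h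
          rwa [comap_map_eq, QuotientGroup.ker_mk', comap_top] at this
        have := commutator_le_of_sup_center_eq_top h2
        rwa [hp.commutator_eq_top, top_le_iff] at this
  · rintro ⟨hp, hn, h⟩
    refine ⟨hp, ?_⟩
    have hne : center H ≠ ⊤ := by
      intro hc
      have := (commutator_eq_bot_iff_center_eq_top H).mpr hc
      rw [hp.commutator_eq_top] at this
      exact top_ne_bot this
    have : Nontrivial (H ⧸ center H) := QuotientGroup.nontrivial_iff.mpr hne
    refine ⟨fun M hM => ?_⟩
    rcases h (M.comap (QuotientGroup.mk' (center H))) (hM.comap _) with h1 | h1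
    · right
      rw [← map_comap_eq_self_of_surjective (QuotientGroup.mk'_surjective (center H)) M, h1,
        map_top_of_surjective _ (QuotientGroup.mk'_surjective (center H))]
    · left
      rw [← map_comap_eq_self_of_surjective (QuotientGroup.mk'_surjective (center H)) M,
        Subgroup.map_eq_bot_iff, QuotientGroup.ker_mk']
      exact h1

theorem quasisimple_isPerfect (h : IsQuasisimple H) : Group.IsPerfect H := h.1

theorem quasisimple_nontrivial (h : IsQuasisimple H) : Nontrivial H := (isQuasisimple_iff.mp h).2.1

theorem quasisimple_normal (h : IsQuasisimple H) (N : Subgroup H) [hN : N.Normal] :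
    N = ⊤ ∨ N ≤ center H := (isQuasisimple_iff.mp h).2.2 N hN

theorem quasisimple_center_ne_top (h : IsQuasisimple H) : center H ≠ ⊤ := by
  intro hc
  have := quasisimple_nontrivial h
  have := (commutator_eq_bot_iff_center_eq_top H).mpr hc
  rw [h.1.commutator_eq_top] at this
  exact top_ne_bot this

theorem quasisimple_not_solvable (h : IsQuasisimple H) : ¬ Group.IsSolvable H := by
  have := quasisimple_nontrivial h
  have := h.1
  exact Group.IsPerfect.not_isSolvable H

/-- In a quasisimple group a subnormal subgroup is everything or central. -/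
theorem quasisimple_subnormal (h : IsQuasisimple H) {N : Subgroup H} (hN : N.IsSubnormal) :
    N = ⊤ ∨ N ≤ center H := by
  rcases hN.lt_normal with h1 | ⟨K, hK, hle, hlt⟩
  · exact Or.inl h1
  · rcases quasisimple_normal h K with h2 | h2
    · exact absurd h2 hlt.ne
    · exact Or.inr (hle.trans h2)

/-- A nontrivial homomorphic image of a quasisimple group is quasisimple. -/
theorem quasisimple_of_surjective (h : IsQuasisimple H) (f : H →* H') (hf : Function.Surjective f)
    [hn : Nontrivial H'] : IsQuasisimple H' := by
  have := h.1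
  refine isQuasisimple_iff.mpr ⟨Group.IsPerfect.ofSurjective hf, hn, fun N hN => ?_⟩
  rcases quasisimple_normal h (N.comap f) with h1 | h1
  · left
    rw [← map_comap_eq_self_of_surjective hf N, h1, map_top_of_surjective _ hf]
  · right
    rw [← map_comap_eq_self_of_surjective hf N]
    rintro _ ⟨x, hx, rfl⟩
    rw [mem_center_iff]
    intro y
    obtain ⟨y, rfl⟩ := hf y
    rw [← map_mul, ← map_mul, mem_center_iff.mp (h1 hx) y]

theorem quasisimple_of_mulEquiv (h : IsQuasisimple H) (e : H ≃* H') : IsQuasisimple H' := by
  have := quasisimple_nontrivial h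
  have : Nontrivial H' := e.symm.surjective.nontrivial
  exact quasisimple_of_surjective h e.toMonoidHom e.surjective

theorem isQuasisimple_congr (e : H ≃* H') : IsQuasisimple H ↔ IsQuasisimple H' :=
  ⟨fun h => quasisimple_of_mulEquiv h e, fun h => quasisimple_of_mulEquiv h e.symm⟩

/-- A perfect central extension of a quasisimple group is quasisimple. -/
theorem quasisimple_of_central_ker [hp : Group.IsPerfect H] (f : H →* H')
    (hf : Function.Surjective f) (hker : f.ker ≤ center H) (h : IsQuasisimple H') :
    IsQuasisimple H := by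
  have := quasisimple_nontrivial h
  refine isQuasisimple_iff.mpr ⟨hp, hf.nontrivial, fun N hN => ?_⟩
  have := hN.map f hf
  rcases quasisimple_normal h (N.map f) with h1 | h1
  · left
    have h2 : N ⊔ center H = ⊤ := by
      have := congrArg (comap f) h1
      rw [comap_map_eq, comap_top] at this
      exact top_le_iff.mp (this ▸ sup_le_sup_left hker N)
    have := commutator_le_of_sup_center_eq_top h2
    rwa [hp.commutator_eq_top, top_le_iff] at this
  · right
    have h2 : ⁅N, (⊤ : Subgroup H)⁆ ≤ center H := by
      refine le_trans ?_ hker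
      rw [← Subgroup.map_eq_bot_iff, map_commutator, map_top_of_surjective _ hf,
        commutator_top_right_eq_bot_iff_le_center]
      exact h1
    rw [← commutator_top_right_eq_bot_iff_le_center] at h2 ⊢
    rw [← hp.commutator_eq_top, commutator_comm, _root_.commutator_def]
    exact commutator_commutator_eq_bot_of_rotate (by rwa [commutator_comm ⊤ N]) h2

/-- A non-abelian simple group is quasisimple. -/
theorem quasisimple_of_isSimpleGroup [IsSimpleGroup H] (hna : ¬ IsMulCommutative H) :
    IsQuasisimple H := by
  refine isQuasisimple_iff.mpr ⟨⟨?_⟩, inferInstance, fun N hN => ?_⟩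
  · rcases (inferInstance : (_root_.commutator H).Normal).eq_bot_or_eq_top with h | h
    · exact absurd ((commutator_eq_bot_iff H).mp h) hna
    · exact h
  · rcases hN.eq_bot_or_eq_top with h | h
    · right; rw [h]; exact bot_le
    · exact Or.inl h

/-- The central quotient of a quasisimple group is non-abelian. -/
theorem quasisimple_quotient_center_not_comm (h : IsQuasisimple H) :
    ¬ IsMulCommutative (H ⧸ center H) := by
  have := h.1
  have := h.2
  exact Group.IsPerfect.not_isMulCommutative _

end quasisimple

section ambient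

variable {G G' : Type*} [Group G] [Group G']

theorem subgroupOf_le_center_iff {N K : Subgroup G} (h : N ≤ K) :
    N.subgroupOf K ≤ center K ↔ ⁅N, K⁆ = ⊥ := by
  rw [commutator_eq_bot_iff_le_centralizer]
  constructor
  · intro h1 x hx y hy
    have := mem_center_iff.mp (h1 (show (⟨x, h hx⟩ : K) ∈ N.subgroupOf K from hx)) ⟨y, hy⟩
    exact congrArg Subtype.val this
  · intro h1 x hx
    rw [mem_center_iff]
    intro y
    exact Subtype.ext (h1 hx y y.2)

theorem map_center_subtype (K : Subgroup G) :
    (center K).map K.subtype = K ⊓ centralizer (K : Set G) := by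
  ext x
  constructor
  · rintro ⟨y, hy, rfl⟩
    refine ⟨y.2, fun z hz => ?_⟩
    exact congrArg Subtype.val (mem_center_iff.mp hy ⟨z, hz⟩)
  · rintro ⟨hx, hc⟩
    refine ⟨⟨x, hx⟩, ?_, rfl⟩
    exact mem_center_iff.mpr fun z => Subtype.ext (hc z z.2)

/-- Ambient characterisation of quasisimple subgroups. -/
theorem isQuasisimple_iff_ambient {K : Subgroup G} : IsQuasisimple K ↔
    ⁅K, K⁆ = K ∧ K ≠ ⊥ ∧
      ∀ N : Subgroup G, N ≤ K → K ≤ normalizer (N : Set G) → N = K ∨ ⁅N, K⁆ = ⊥ := by
  rw [isQuasisimple_iff, Subgroup.isPerfect_iff, nontrivial_iff_ne_bot]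
  refine and_congr_right fun _ => and_congr_right fun _ => ⟨fun h N hN hK => ?_, fun h N hN => ?_⟩
  · rcases h (N.subgroupOf K) (normal_subgroupOf_of_le_normalizer hK) with h1 | h1
    · exact Or.inl (le_antisymm hN (subgroupOf_eq_top.mp h1))
    · exact Or.inr ((subgroupOf_le_center_iff hN).mp h1)
  · have hle : N.map K.subtype ≤ K := map_subtype_le N
    have hN' : (N.map K.subtype).subgroupOf K = N := by
      rw [subgroupOf, comap_map_eq_self_of_injective K.subtype_injective]
    rcases h (N.map K.subtype) hle
      ((normal_subgroupOf_iff_le_normalizer hle).mp (by rw [hN']; exact hN)) with h1 | h1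
    · left
      rw [← hN', h1, subgroupOf_self]
    · right
      rw [← hN']
      exact (subgroupOf_le_center_iff hle).mpr h1

theorem quasisimple_commutator_self {K : Subgroup G} (h : IsQuasisimple K) : ⁅K, K⁆ = K :=
  (isQuasisimple_iff_ambient.mp h).1

theorem quasisimple_ne_bot {K : Subgroup G} (h : IsQuasisimple K) : K ≠ ⊥ :=
  (isQuasisimple_iff_ambient.mp h).2.1

theorem quasisimple_eq_or_commute {K : Subgroup G} (h : IsQuasisimple K) {N : Subgroup G}
    (hN : N ≤ K) (hK : K ≤ normalizer (N : Set G)) : N = K ∨ ⁅N, K⁆ = ⊥ :=
  (isQuasisimple_iff_ambient.mp h).2.2 N hN hK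

theorem quasisimple_commutator_ne_bot {K : Subgroup G} (h : IsQuasisimple K) : ⁅K, K⁆ ≠ ⊥ := by
  rw [quasisimple_commutator_self h]; exact quasisimple_ne_bot h

theorem quasisimple_not_le_centralizer {K : Subgroup G} (h : IsQuasisimple K) :
    ¬ K ≤ centralizer (K : Set G) := fun h1 =>
  quasisimple_commutator_ne_bot h (commutator_eq_bot_iff_le_centralizer.mpr h1)

theorem quasisimple_not_le_solvable {K S : Subgroup G} (h : IsQuasisimple K)
    (hS : Group.IsSolvable S) : ¬ K ≤ S := fun h1 =>
  quasisimple_not_solvable h
    (Group.isSolvable_of_isSolvable_injective (f := inclusion h1) (inclusion_injective h1))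

/-- Image of a quasisimple subgroup under a homomorphism not killing it. -/
theorem quasisimple_map {K : Subgroup G} (h : IsQuasisimple K) (f : G →* G')
    (hne : K.map f ≠ ⊥) : IsQuasisimple (K.map f) := by
  have : Nontrivial (K.map f) := (nontrivial_iff_ne_bot _).mpr hne
  exact quasisimple_of_surjective h (f.subgroupMap K) (f.subgroupMap_surjective K)

theorem isQuasisimple_map_iff_of_injective {K : Subgroup G} (f : G →* G')
    (hf : Function.Injective f) : IsQuasisimple (K.map f) ↔ IsQuasisimple K :=
  (isQuasisimple_congr (K.equivMapOfInjective f hf)).symm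

theorem isQuasisimple_subgroupOf_iff {K H : Subgroup G} (h : K ≤ H) :
    IsQuasisimple (K.subgroupOf H) ↔ IsQuasisimple K :=
  isQuasisimple_congr (subgroupOfEquivOfLe h)

theorem isQuasisimple_top_iff : IsQuasisimple (⊤ : Subgroup G) ↔ IsQuasisimple G :=
  isQuasisimple_congr topEquiv

/-- For a perfect subgroup `L`, `[X, L, L] = 1` implies `[X, L] = 1`. -/
theorem commutator_eq_bot_of_perfect {X L : Subgroup G} (hL : ⁅L, L⁆ = L)
    (h : ⁅⁅X, L⁆, L⁆ = ⊥) : ⁅X, L⁆ = ⊥ := by
  rw [commutator_comm, ← hL]
  exact commutator_commutator_eq_bot_of_rotate (by rwa [commutator_comm L X]) h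

theorem commutator_eq_bot_of_perfect_of_iter {X L : Subgroup G} (hL : ⁅L, L⁆ = L) (n : ℕ)
    (h : iterCommutator X L (n + 1) = ⊥) : ⁅X, L⁆ = ⊥ := by
  induction n with
  | zero => exact h
  | succ n ih => exact ih (commutator_eq_bot_of_perfect hL h)

theorem exists_iterCommutator_le_of_subnormal {K : Subgroup G} (hK : K.IsSubnormal)
    (X L : Subgroup G) (hL : L ≤ K) : ∃ n, iterCommutator X L n ≤ K := by
  induction hK with
  | top => exact ⟨0, le_top⟩
  | step H K hle _ hN ih =>
    obtain ⟨n, hn⟩ := ih (hL.trans hle)
    refine ⟨n + 1, ?_⟩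
    rw [normal_subgroupOf_iff_le_normalizer hle, le_normalizer_iff_commutator_le_right] at hN
    exact (commutator_mono hn hL).trans hN

theorem iterCommutator_le_of_le_normalizer {X L : Subgroup G} (h : L ≤ normalizer (X : Set G))
    (n : ℕ) : iterCommutator X L n ≤ X := by
  induction n with
  | zero => exact le_rfl
  | succ n ih =>
    exact (commutator_mono ih le_rfl).trans (le_normalizer_iff_commutator_le_left.mp h)

end ambient

section component

variable {G G' : Type*} [Group G] [Group G']

theorem component_commutator_self {K : Subgroup G} (h : IsComponent K) : ⁅K, K⁆ = K :=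
  quasisimple_commutator_self h.2

theorem component_ne_bot {K : Subgroup G} (h : IsComponent K) : K ≠ ⊥ := quasisimple_ne_bot h.2

theorem component_le_layer {K : Subgroup G} (h : IsComponent K) : K ≤ layer G := le_sSup h

/-- A component `L` lies in, or commutes with, any subgroup that it normalizes. -/
theorem component_le_or_commute_of_normalizes {L N : Subgroup G} (hL : IsComponent L)
    (hN : L ≤ normalizer (N : Set G)) : L ≤ N ∨ ⁅L, N⁆ = ⊥ := by
  have h1 : L ≤ normalizer ((L ⊓ N : Subgroup G) : Set G) :=
    (le_inf le_normalizer hN).trans (inf_normalizer_le_normalizer_inf)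
  rcases quasisimple_eq_or_commute hL.2 inf_le_left h1 with h | h
  · exact Or.inl (inf_eq_left.mp h)
  · right
    obtain ⟨n, hn⟩ := exists_iterCommutator_le_of_subnormal hL.1 N L le_rfl
    rw [commutator_comm]
    refine commutator_eq_bot_of_perfect_of_iter (component_commutator_self hL) n ?_
    exact le_bot_iff.mp (h ▸ commutator_mono
      (le_inf hn (iterCommutator_le_of_le_normalizer hN n)) le_rfl)

/-- A component lies in, or commutes with, any subnormal subgroup. -/
theorem component_le_or_commute {L H : Subgroup G} (hL : IsComponent L) (hH : H.IsSubnormal) :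
    L ≤ H ∨ ⁅L, H⁆ = ⊥ := by
  induction hH with
  | top => exact Or.inl le_top
  | step H K hle _ hN ih =>
    rcases ih with h | h
    · exact component_le_or_commute_of_normalizes hL
        (h.trans ((normal_subgroupOf_iff_le_normalizer hle).mp hN))
    · exact Or.inr (le_bot_iff.mp (h ▸ commutator_mono le_rfl hle))

/-- A component commutes with every solvable subgroup that it normalizes. -/
theorem component_commute_of_solvable {L H : Subgroup G} (hL : IsComponent L)
    (hs : Group.IsSolvable H) (hN : L ≤ normalizer (H : Set G)) : ⁅L, H⁆ = ⊥ :=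
  (component_le_or_commute_of_normalizes hL hN).resolve_left (quasisimple_not_le_solvable hL.2 hs)

/-- A component commutes with every solvable subnormal subgroup. -/
theorem component_commute_of_solvable_subnormal {L H : Subgroup G} (hL : IsComponent L)
    (hs : Group.IsSolvable H) (hN : H.IsSubnormal) : ⁅L, H⁆ = ⊥ :=
  (component_le_or_commute hL hN).resolve_left (quasisimple_not_le_solvable hL.2 hs)

/-- A perfect nontrivial subnormal subgroup inside a quasisimple subgroup is all of it. -/
theorem eq_of_le_quasisimple {L K : Subgroup G} (hK : IsQuasisimple K) (hle : L ≤ K)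
    (hsn : (L.subgroupOf K).IsSubnormal) (hL : ⁅L, L⁆ ≠ ⊥) : L = K := by
  rcases quasisimple_subnormal hK hsn with h | h
  · exact le_antisymm hle (subgroupOf_eq_top.mp h)
  · rw [subgroupOf_le_center_iff hle] at h
    exact absurd (le_bot_iff.mp (h ▸ commutator_mono le_rfl hle)) hL

theorem component_eq_of_le {L K : Subgroup G} (hL : IsComponent L) (hK : IsComponent K)
    (hle : L ≤ K) : L = K :=
  eq_of_le_quasisimple hK.2 hle hL.1.subgroupOf (quasisimple_commutator_ne_bot hL.2)

/-- Distinct components commute. -/
theorem component_commute {L K : Subgroup G} (hL : IsComponent L) (hK : IsComponent K)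
    (hne : L ≠ K) : ⁅L, K⁆ = ⊥ :=
  (component_le_or_commute hL hK.1).resolve_left fun h => hne (component_eq_of_le hL hK h)

theorem component_eq_or_commute {L K : Subgroup G} (hL : IsComponent L) (hK : IsComponent K) :
    L = K ∨ ⁅L, K⁆ = ⊥ := by
  by_cases h : L = K
  · exact Or.inl h
  · exact Or.inr (component_commute hL hK h)

/-- Components of a subnormal subgroup. -/
theorem isComponent_iff_map_subtype {H : Subgroup G} (hH : H.IsSubnormal) (K : Subgroup H) :
    IsComponent K ↔ IsComponent (K.map H.subtype) := by
  constructor
  · rintro ⟨h1, h2⟩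
    exact ⟨h1.trans' hH, (isQuasisimple_map_iff_of_injective _ H.subtype_injective).mpr h2⟩
  · rintro ⟨h1, h2⟩
    refine ⟨?_, (isQuasisimple_map_iff_of_injective _ H.subtype_injective).mp h2⟩
    have := h1.comap H.subtype
    rwa [comap_map_eq_self_of_injective H.subtype_injective] at this

/-- A component of `G` contained in any subgroup `H` is a component of `H`. -/
theorem component_subgroupOf {K H : Subgroup G} (hK : IsComponent K) (hle : K ≤ H) :
    IsComponent (K.subgroupOf H) :=
  ⟨hK.1.subgroupOf, (isQuasisimple_subgroupOf_iff hle).mpr hK.2⟩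

theorem component_of_subgroupOf {K H : Subgroup G} (hH : H.IsSubnormal) (hle : K ≤ H)
    (hK : IsComponent (K.subgroupOf H)) : IsComponent K :=
  ⟨Subgroup.IsSubnormal.trans hle hK.1 hH, (isQuasisimple_subgroupOf_iff hle).mp hK.2⟩

/-- The image of a component under a surjection is a component or trivial. -/
theorem component_map_of_surjective {K : Subgroup G} (hK : IsComponent K) (f : G →* G')
    (hf : Function.Surjective f) (hne : K.map f ≠ ⊥) : IsComponent (K.map f) :=
  ⟨hK.1.map hf, quasisimple_map hK.2 f hne⟩

theorem component_map_equiv {K : Subgroup G} (hK : IsComponent K) (e : G ≃* G') :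
    IsComponent (K.map e.toMonoidHom) :=
  ⟨hK.1.map e.surjective, (isQuasisimple_map_iff_of_injective _ e.injective).mpr hK.2⟩

theorem component_map_equiv' {K : Subgroup G} (hK : IsComponent K) (e : G ≃* G') :
    IsComponent (K.map (e : G →* G')) := component_map_equiv hK e

theorem isComponent_map_equiv_iff {K : Subgroup G} (e : G ≃* G') :
    IsComponent (K.map e.toMonoidHom) ↔ IsComponent K := by
  refine ⟨fun h => ?_, fun h => component_map_equiv h e⟩
  have := component_map_equiv h e.symm
  rw [map_map] at this
  simpa using this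

theorem component_conj {K : Subgroup G} (hK : IsComponent K) (g : G) :
    IsComponent (K.map (MulAut.conj g).toMonoidHom) := component_map_equiv hK _

theorem isComponent_top_iff : IsComponent (⊤ : Subgroup G) ↔ IsQuasisimple G :=
  ⟨fun h => isQuasisimple_top_iff.mp h.2, fun h => ⟨.top, isQuasisimple_top_iff.mpr h⟩⟩

end component

end CL.Sig
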