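import Cfsg.Agent.Base
import Cfsg.Agent.Sig.CompBasic

/-!
# Commutator lemmas and the few facts on the Fitting subgroup needed for `F*(G)`
-/

set_option autoImplicit false

namespace CL.Sig

open Cfsg Subgroup
open scoped commutatorElement IsMulCommutative

section commutator

variable {G G' : Type*} [Group G] [Group G']

theorem commutator_le_iff_le_comap_centralizer {A C K : Subgroup G} [K.Normal] :
    ⁅A, C⁆ ≤ K ↔ A ≤ (centralizer ((C.map (QuotientGroup.mk' K) : Subgroup (G ⧸ K)) :
      Set (G ⧸ K))).comap (QuotientGroup.mk' K) := by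
  rw [← map_le_iff_le_comap, ← commutator_eq_bot_iff_le_centralizer, ← map_commutator,
    Subgroup.map_eq_bot_iff, QuotientGroup.ker_mk']

theorem commutator_sSup_left_le {S : Set (Subgroup G)} {C K : Subgroup G} [K.Normal]
    (h : ∀ A ∈ S, ⁅A, C⁆ ≤ K) : ⁅sSup S, C⁆ ≤ K :=
  commutator_le_iff_le_comap_centralizer.mpr
    (sSup_le fun A hA => commutator_le_iff_le_comap_centralizer.mp (h A hA))

theorem commutator_sSup_right_le {S : Set (Subgroup G)} {C K : Subgroup G} [K.Normal]
    (h : ∀ A ∈ S, ⁅C, A⁆ ≤ K) : ⁅C, sSup S⁆ ≤ K := by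
  rw [commutator_comm]
  exact commutator_sSup_left_le fun A hA => commutator_comm A C ▸ h A hA

theorem commutator_iSup_left_le {ι : Sort*} {A : ι → Subgroup G} {C K : Subgroup G} [K.Normal]
    (h : ∀ i, ⁅A i, C⁆ ≤ K) : ⁅⨆ i, A i, C⁆ ≤ K :=
  commutator_le_iff_le_comap_centralizer.mpr
    (iSup_le fun i => commutator_le_iff_le_comap_centralizer.mp (h i))

theorem commutator_sup_left_le {A B C K : Subgroup G} [K.Normal]
    (hA : ⁅A, C⁆ ≤ K) (hB : ⁅B, C⁆ ≤ K) : ⁅A ⊔ B, C⁆ ≤ K :=
  commutator_le_iff_le_comap_centralizer.mpr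
    (sup_le (commutator_le_iff_le_comap_centralizer.mp hA)
      (commutator_le_iff_le_comap_centralizer.mp hB))

theorem commutator_sup_right_le {A B C K : Subgroup G} [K.Normal]
    (hA : ⁅C, A⁆ ≤ K) (hB : ⁅C, B⁆ ≤ K) : ⁅C, A ⊔ B⁆ ≤ K := by
  rw [commutator_comm] at hA hB ⊢
  exact commutator_sup_left_le hA hB

theorem commutator_sup_left_eq_bot {A B C : Subgroup G} (hA : ⁅A, C⁆ = ⊥) (hB : ⁅B, C⁆ = ⊥) :
    ⁅A ⊔ B, C⁆ = ⊥ :=
  le_bot_iff.mp (commutator_sup_left_le hA.le hB.le)

theorem commutator_sup_right_eq_bot {A B C : Subgroup G} (hA : ⁅C, A⁆ = ⊥) (hB : ⁅C, B⁆ = ⊥) :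
    ⁅C, A ⊔ B⁆ = ⊥ :=
  le_bot_iff.mp (commutator_sup_right_le hA.le hB.le)

theorem commutator_eq_bot_mono {A B A' B' : Subgroup G} (h : ⁅A, B⁆ = ⊥) (hA : A' ≤ A)
    (hB : B' ≤ B) : ⁅A', B'⁆ = ⊥ :=
  le_bot_iff.mp (h ▸ commutator_mono hA hB)

theorem le_normalizer_of_commutator_eq_bot {A B : Subgroup G} (h : ⁅A, B⁆ = ⊥) :
    A ≤ normalizer (B : Set G) :=
  le_normalizer_iff_commutator_le_right.mpr (h ▸ bot_le)

/-- The commutator lemma for joins, relative to a subgroup `K` that is only normalized by the
subgroups involved. -/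
theorem commutator_sup_left_le_of_normalizer {A B C K : Subgroup G}
    (hAK : A ≤ normalizer (K : Set G)) (hBK : B ≤ normalizer (K : Set G))
    (hA : ⁅A, C⁆ ≤ K) (hB : ⁅B, C⁆ ≤ K) : ⁅A ⊔ B, C⁆ ≤ K := by
  let T : Subgroup G :=
    { carrier := {x | x ∈ normalizer (K : Set G) ∧ ∀ c ∈ C, ⁅x, c⁆ ∈ K}
      one_mem' := ⟨one_mem _, fun c _ => by simp⟩
      mul_mem' := by
        rintro x y ⟨hx, hx'⟩ ⟨hy, hy'⟩
        refine ⟨mul_mem hx hy, fun c hc => ?_⟩
        rw [commutatorElement_mul_left_eq_conj_mul]
        exact mul_mem ((mem_normalizer_iff.mp hx _).mp (hy' c hc)) (hx' c hc)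
      inv_mem' := by
        rintro x ⟨hx, hx'⟩
        refine ⟨inv_mem hx, fun c hc => ?_⟩
        rw [commutatorElement_inv_left, ← commutatorElement_inv]
        have := (mem_normalizer_iff.mp (inv_mem hx) _).mp (inv_mem (hx' c hc))
        simpa using this }
  have h : A ⊔ B ≤ T := sup_le (fun x hx => ⟨hAK hx, commutator_le.mp hA x hx⟩)
    (fun x hx => ⟨hBK hx, commutator_le.mp hB x hx⟩)
  exact commutator_le.mpr fun x hx => (h hx).2

theorem commutator_sSup_left_le_of_normalizer {S : Set (Subgroup G)} {C K : Subgroup G}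
    (hK : ∀ A ∈ S, A ≤ normalizer (K : Set G)) (h : ∀ A ∈ S, ⁅A, C⁆ ≤ K) : ⁅sSup S, C⁆ ≤ K := by
  let T : Subgroup G :=
    { carrier := {x | x ∈ normalizer (K : Set G) ∧ ∀ c ∈ C, ⁅x, c⁆ ∈ K}
      one_mem' := ⟨one_mem _, fun c _ => by simp⟩
      mul_mem' := by
        rintro x y ⟨hx, hx'⟩ ⟨hy, hy'⟩
        refine ⟨mul_mem hx hy, fun c hc => ?_⟩
        rw [commutatorElement_mul_left_eq_conj_mul]
        exact mul_mem ((mem_normalizer_iff.mp hx _).mp (hy' c hc)) (hx' c hc)
      inv_mem' := by
        rintro x ⟨hx, hx'⟩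
        refine ⟨inv_mem hx, fun c hc => ?_⟩
        rw [commutatorElement_inv_left, ← commutatorElement_inv]
        have := (mem_normalizer_iff.mp (inv_mem hx) _).mp (inv_mem (hx' c hc))
        simpa using this }
  have h : sSup S ≤ T := sSup_le fun A hA x hx => ⟨hK A hA hx, commutator_le.mp (h A hA) x hx⟩
  exact commutator_le.mpr fun x hx => (h hx).2

/-- Three subgroups lemma modulo a normal subgroup. -/
theorem commutator_commutator_le_of_rotate {A B C K : Subgroup G} [K.Normal]
    (h1 : ⁅⁅B, C⁆, A⁆ ≤ K) (h2 : ⁅⁅C, A⁆, B⁆ ≤ K) : ⁅⁅A, B⁆, C⁆ ≤ K := by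
  have key : ∀ X : Subgroup G, X ≤ K ↔ X.map (QuotientGroup.mk' K) = ⊥ := fun X => by
    rw [Subgroup.map_eq_bot_iff, QuotientGroup.ker_mk']
  rw [key] at h1 h2 ⊢
  simp only [map_commutator] at h1 h2 ⊢
  exact commutator_commutator_eq_bot_of_rotate h1 h2

/-- If `[N, N]` commutes with `N` then `N` is nilpotent. -/
theorem isNilpotent_of_commutator_commutator_eq_bot {N : Subgroup G} (h : ⁅⁅N, N⁆, N⁆ = ⊥) :
    Group.IsNilpotent N :=
  isNilpotent_of_lowerCentralSeries_eq_bot (n := 2) h

theorem map_conj_eq_self_iff {H : Subgroup G} {g : G} :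
    H.map (MulAut.conj g).toMonoidHom = H ↔ g ∈ normalizer (H : Set G) := by
  rw [mem_normalizer_iff]
  constructor
  · intro h x
    conv_rhs => rw [← h]
    constructor
    · intro hx; exact ⟨x, hx, rfl⟩
    · rintro ⟨y, hy, hxy⟩
      have : y = x := (MulAut.conj g).injective hxy
      exact this ▸ hy
  · intro h
    ext x
    constructor
    · rintro ⟨y, hy, rfl⟩; exact (h y).mp hy
    · intro hx
      refine ⟨g⁻¹ * x * g, (h _).mpr (by simpa [mul_assoc] using hx), by simp [mul_assoc]⟩

theorem normal_of_forall_map_conj_le {H : Subgroup G}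
    (h : ∀ g : G, H.map (MulAut.conj g).toMonoidHom ≤ H) : H.Normal :=
  ⟨fun x hx g => h g ⟨x, hx, rfl⟩⟩

/-- A characteristic subgroup of `H`, pushed into `G`, is normalized by `N_G(H)`. -/
theorem normalizer_le_normalizer_map_char (H : Subgroup G) (K : Subgroup H) [hK : K.Characteristic] :
    normalizer (H : Set G) ≤ normalizer ((K.map H.subtype : Subgroup G) : Set G) := by
  have key : ∀ g ∈ normalizer (H : Set G), ∀ x ∈ K.map H.subtype, g * x * g⁻¹ ∈ K.map H.subtype := by
    rintro g hg _ ⟨x, hx, rfl⟩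
    have := characteristic_iff_map_le.mp hK (H.normalizerMonoidHom ⟨g, hg⟩) ⟨x, hx, rfl⟩
    exact ⟨_, this, rfl⟩
  intro g hg
  rw [mem_normalizer_iff]
  refine fun x => ⟨key g hg x, fun hx => ?_⟩
  have := key g⁻¹ (inv_mem hg) _ hx
  simpa [mul_assoc] using this

theorem isSubnormal_of_le_normalizer {H K : Subgroup G} (hle : H ≤ K)
    (hn : K ≤ normalizer (H : Set G)) (hK : K.IsSubnormal) : H.IsSubnormal :=
  .step H K hle hK (normal_subgroupOf_of_le_normalizer hn)

theorem isSubnormal_map_subtype_of_normal {H : Subgroup G} (hH : H.IsSubnormal) (K : Subgroup H)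
    [hK : K.Normal] : (K.map H.subtype).IsSubnormal := hK.isSubnormal.trans' hH

theorem commutator_self_isSubnormal {H : Subgroup G} (hH : H.IsSubnormal) : ⁅H, H⁆.IsSubnormal :=
  isSubnormal_of_le_normalizer (commutator_le_self H) (normalizer_commutator_ge_left H H) hH

end commutator

section fitting

variable {G G' : Type*} [Group G] [Group G']

theorem le_fitting {N : Subgroup G} (hN : N.Normal) (h : Group.IsNilpotent N) :
    N ≤ fittingSubgroup G := le_sSup ⟨hN, h⟩

theorem map_fitting_le_of_surjective (f : G →* G') (hf : Function.Surjective f) :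
    (fittingSubgroup G).map f ≤ fittingSubgroup G' := by
  rw [map_le_iff_le_comap]
  refine sSup_le fun N ⟨hN, h⟩ => map_le_iff_le_comap.mp (le_fitting (hN.map f hf) ?_)
  exact Group.nilpotent_of_surjective (f.subgroupMap N) (f.subgroupMap_surjective N)

theorem map_fitting_equiv (e : G ≃* G') :
    (fittingSubgroup G).map e.toMonoidHom = fittingSubgroup G' := by
  refine le_antisymm (map_fitting_le_of_surjective _ e.surjective) fun x hx => ?_
  exact ⟨e.symm x, map_fitting_le_of_surjective e.symm.toMonoidHom e.symm.surjective ⟨x, hx, rfl⟩,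
    by simp⟩

instance fitting_characteristic_inst : (fittingSubgroup G).Characteristic :=
  characteristic_iff_map_eq.mpr fun e => map_fitting_equiv e

theorem fitting_normal : (fittingSubgroup G).Normal := inferInstance

/-- **Fitting's theorem**: the Fitting subgroup of a finite group is nilpotent. -/
theorem fitting_isNilpotent [Finite G] : Group.IsNilpotent (fittingSubgroup G) := by
  have key : ∀ V : Subgroup G, V.Normal → V ≠ ⊥ → ⁅V, fittingSubgroup G⁆ < V := by
    intro V hV hne
    obtain ⟨W, ⟨hW, hWV⟩, hmax⟩ := (Set.toFinite {W : Subgroup G | W.Normal ∧ W < V}).exists_maximal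
      ⟨⊥, inferInstance, bot_lt_iff_ne_bot.mpr hne⟩
    refine lt_of_le_of_lt (commutator_sSup_right_le fun N ⟨hN, hnil⟩ => ?_) hWV
    by_contra hcon
    have h1 : W ⊔ ⁅V, N⁆ = V := by
      by_contra h2
      have h3 : W ⊔ ⁅V, N⁆ < V := lt_of_le_of_ne (sup_le hWV.le (commutator_le_left V N)) h2
      exact hcon (le_sup_right.trans (hmax ⟨inferInstance, h3⟩ le_sup_left))
    have h2 : ∀ k, V ≤ W ⊔ N.lowerCentralSeries k := by
      intro k
      induction k with
      | zero => exact h1.ge.trans (sup_le_sup_left (commutator_le_right V N) W)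
      | succ k ih =>
        refine h1.ge.trans (sup_le le_sup_left ?_)
        refine (commutator_mono ih le_rfl).trans (commutator_sup_left_le ?_ ?_)
        · exact (commutator_le_left W N).trans le_sup_left
        · exact le_sup_right
    obtain ⟨k, hk⟩ := (isNilpotent_iff_lowerCentralSeries N).mp hnil
    have := h2 k
    rw [hk, sup_bot_eq] at this
    exact hWV.not_ge this
  rw [isNilpotent_iff_lowerCentralSeries]
  by_contra hcon
  push Not at hcon
  have : StrictAnti (fittingSubgroup G).lowerCentralSeries :=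
    strictAnti_nat_of_succ_lt fun n => key _ inferInstance (hcon n)
  exact not_injective_infinite_finite _ this.injective

theorem fitting_isSolvable [Finite G] : Group.IsSolvable (fittingSubgroup G) :=
  have := fitting_isNilpotent (G := G)
  inferInstance

theorem isNilpotent_map_subtype {H : Subgroup G} {K : Subgroup H} (h : Group.IsNilpotent K) :
    Group.IsNilpotent (K.map H.subtype) :=
  Group.nilpotent_of_mulEquiv (K.equivMapOfInjective _ H.subtype_injective)

theorem isNilpotent_of_le {H K : Subgroup G} (hle : H ≤ K) (h : Group.IsNilpotent K) :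
    Group.IsNilpotent H :=
  Group.nilpotent_of_mulEquiv (subgroupOfEquivOfLe hle)

theorem isSolvable_of_le {H K : Subgroup G} (hle : H ≤ K) (h : Group.IsSolvable K) :
    Group.IsSolvable H :=
  Group.isSolvable_of_isSolvable_injective (f := inclusion hle) (inclusion_injective hle)

/-- `F(H) ≤ F(G)` for a subnormal subgroup `H`. -/
theorem map_fitting_le_of_subnormal [Finite G] {H : Subgroup G} (hH : H.IsSubnormal) :
    (fittingSubgroup H).map H.subtype ≤ fittingSubgroup G := by
  induction hH with
  | top => exact map_fitting_le_of_surjective _ (fun x => ⟨⟨x, mem_top x⟩, rfl⟩)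
  | step H K hle _ hN ih =>
    refine le_trans ?_ ih
    have h1 : ((fittingSubgroup H).map H.subtype).subgroupOf K ≤ fittingSubgroup K := by
      refine le_fitting (normal_subgroupOf_of_le_normalizer
        (((normal_subgroupOf_iff_le_normalizer hle).mp hN).trans
          (normalizer_le_normalizer_map_char H _))) ?_
      have := isNilpotent_map_subtype (fitting_isNilpotent (G := H))
      exact Group.nilpotent_of_mulEquiv (subgroupOfEquivOfLe ((map_subtype_le _).trans hle)).symm
    rw [← map_subgroupOf_eq_of_le ((map_subtype_le (fittingSubgroup H)).trans hle)]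
    exact map_mono h1

/-- A nilpotent subnormal subgroup of a finite group lies in the Fitting subgroup. -/
theorem le_fitting_of_subnormal [Finite G] {H : Subgroup G} (hH : H.IsSubnormal)
    (h : Group.IsNilpotent H) : H ≤ fittingSubgroup G := by
  refine le_trans ?_ (map_fitting_le_of_subnormal hH)
  have : (⊤ : Subgroup H) ≤ fittingSubgroup H := le_fitting inferInstance inferInstance
  intro x hx
  exact ⟨⟨x, hx⟩, this (mem_top _), rfl⟩

/-- `F(H) = F(G) ∩ H` for a subnormal subgroup `H`. -/
theorem map_fitting_of_subnormal [Finite G] {H : Subgroup G} (hH : H.IsSubnormal) :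
    (fittingSubgroup H).map H.subtype = fittingSubgroup G ⊓ H := by
  refine le_antisymm (le_inf (map_fitting_le_of_subnormal hH) (map_subtype_le _)) ?_
  have h1 : (fittingSubgroup G).subgroupOf H ≤ fittingSubgroup H := by
    refine le_fitting inferInstance ?_
    have := isNilpotent_of_le (inf_le_left : fittingSubgroup G ⊓ H ≤ _) fitting_isNilpotent
    rw [← inf_subgroupOf_right]
    exact Group.nilpotent_of_mulEquiv (subgroupOfEquivOfLe inf_le_right).symm
  rw [← subgroupOf_map_subtype]
  exact map_mono h1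

theorem center_le_fitting : center G ≤ fittingSubgroup G :=
  le_fitting inferInstance inferInstance

theorem fitting_eq_top_iff [Finite G] : fittingSubgroup G = ⊤ ↔ Group.IsNilpotent G := by
  constructor
  · intro h
    have := fitting_isNilpotent (G := G)
    rw [h] at this
    exact Group.isNilpotent_top.mp this
  · intro h
    exact top_le_iff.mp (le_fitting inferInstance inferInstance)

/-- A solvable subnormal subgroup centralizing `F(G)` lies in `F(G)`. -/
theorem le_fitting_of_solvable_of_le_centralizer [Finite G] {N : Subgroup G} (hN : N.IsSubnormal)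
    (hs : Group.IsSolvable N) (hC : N ≤ centralizer (fittingSubgroup G : Set G)) :
    N ≤ fittingSubgroup G := by
  induction N using WellFoundedLT.induction with
  | ind N ih =>
    by_cases hb : N = ⊥
    · rw [hb]; exact bot_le
    have hlt : ⁅N, N⁆ < N := by
      have : Nontrivial N := (nontrivial_iff_ne_bot _).mpr hb
      have h1 := hs.commutator_lt_top_of_nontrivial
      refine lt_of_le_of_ne (commutator_le_self N) fun h => h1.ne ?_
      exact (Subgroup.isPerfect_iff.mpr h).commutator_eq_top
    have h2 := ih _ hlt (commutator_self_isSubnormal hN) (isSolvable_of_le hlt.le hs)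
      (hlt.le.trans hC)
    refine le_fitting_of_subnormal hN (isNilpotent_of_commutator_commutator_eq_bot ?_)
    rw [commutator_comm, commutator_eq_bot_iff_le_centralizer]
    exact hC.trans (centralizer_le h2)

end fitting

end CL.Sig
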