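import Cfsg.Agent.Base
import Cfsg.Agent.Sig.CompFitting

/-!
# The layer `E(G)` and the generalized Fitting subgroup `F*(G)`
-/

set_option autoImplicit false

namespace CL.Sig

open Cfsg Subgroup
open scoped commutatorElement IsMulCommutative Pointwise

variable {G G' : Type*} [Group G] [Group G']

section products

theorem mem_sup_of_le_normalizer_right {A B : Subgroup G} (h : A ≤ normalizer (B : Set G)) {x : G} :
    x ∈ A ⊔ B ↔ ∃ a ∈ A, ∃ b ∈ B, a * b = x := by
  rw [← SetLike.mem_coe, coe_mul_of_left_le_normalizer_right A B h, Set.mem_mul]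
  rfl

theorem mem_sup_of_le_normalizer_left {A B : Subgroup G} (h : B ≤ normalizer (A : Set G)) {x : G} :
    x ∈ A ⊔ B ↔ ∃ a ∈ A, ∃ b ∈ B, a * b = x := by
  rw [← SetLike.mem_coe, coe_mul_of_right_le_normalizer_left A B h, Set.mem_mul]
  rfl

theorem mem_sup_of_commutator_eq_bot {A B : Subgroup G} (h : ⁅A, B⁆ = ⊥) {x : G} :
    x ∈ A ⊔ B ↔ ∃ a ∈ A, ∃ b ∈ B, a * b = x :=
  mem_sup_of_le_normalizer_right (le_normalizer_of_commutator_eq_bot h)

/-- Dedekind's law, `A` normalized by `B`. -/
theorem sup_inf_eq_of_le_normalizer {A B S : Subgroup G} (h : B ≤ normalizer (A : Set G))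
    (hA : A ≤ S) : (A ⊔ B) ⊓ S = A ⊔ (B ⊓ S) := by
  refine le_antisymm ?_ (sup_le (le_inf le_sup_left hA) (inf_le_inf_right S le_sup_right))
  rintro x ⟨hx, hxS⟩
  obtain ⟨a, ha, b, hb, rfl⟩ := (mem_sup_of_le_normalizer_left h).mp hx
  refine mul_mem (mem_sup_left ha) (mem_sup_right ⟨hb, ?_⟩)
  have := mul_mem (inv_mem (hA ha)) hxS
  simpa using this

/-- Dedekind's law, `B` normalized by `A`. -/
theorem sup_inf_eq_of_le_normalizer' {A B S : Subgroup G} (h : A ≤ normalizer (B : Set G))
    (hA : A ≤ S) : (A ⊔ B) ⊓ S = A ⊔ (B ⊓ S) := by
  refine le_antisymm ?_ (sup_le (le_inf le_sup_left hA) (inf_le_inf_right S le_sup_right))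
  rintro x ⟨hx, hxS⟩
  obtain ⟨a, ha, b, hb, rfl⟩ := (mem_sup_of_le_normalizer_right h).mp hx
  refine mul_mem (mem_sup_left ha) (mem_sup_right ⟨hb, ?_⟩)
  have := mul_mem (inv_mem (hA ha)) hxS
  simpa using this

theorem commute_of_commutator_eq_bot {A B : Subgroup G} (h : ⁅A, B⁆ = ⊥) {a b : G} (ha : a ∈ A)
    (hb : b ∈ B) : a * b = b * a :=
  (commutator_eq_bot_iff_le_centralizer.mp h ha b hb).symm

theorem commutator_eq_bot_of_forall {A B : Subgroup G} (h : ∀ a ∈ A, ∀ b ∈ B, a * b = b * a) :
    ⁅A, B⁆ = ⊥ :=
  commutator_eq_bot_iff_le_centralizer.mpr fun a ha b hb => (h a ha b hb).symm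

theorem le_normalizer_sSup {H : Subgroup G} {S : Set (Subgroup G)}
    (h : ∀ K ∈ S, H ≤ normalizer (K : Set G)) : H ≤ normalizer ((sSup S : Subgroup G) : Set G) := by
  rw [sSup_eq_iSup']
  exact le_trans (le_iInf fun K : S => h K.1 K.2) (iInf_normalizer_le_normalizer_iSup _)

theorem le_normalizer_sup {H A B : Subgroup G} (hA : H ≤ normalizer (A : Set G))
    (hB : H ≤ normalizer (B : Set G)) : H ≤ normalizer ((A ⊔ B : Subgroup G) : Set G) :=
  (le_inf hA hB).trans (normalizer_inf_normalizer_le_normalizer_sup A B)

theorem le_normalizer_inf {H A B : Subgroup G} (hA : H ≤ normalizer (A : Set G))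
    (hB : H ≤ normalizer (B : Set G)) : H ≤ normalizer ((A ⊓ B : Subgroup G) : Set G) :=
  (le_inf hA hB).trans inf_normalizer_le_normalizer_inf

theorem normalizer_le_normalizer_centralizer' (A : Subgroup G) :
    normalizer (A : Set G) ≤ normalizer ((centralizer (A : Set G) : Subgroup G) : Set G) := by
  have key : ∀ g ∈ normalizer (A : Set G), ∀ x ∈ centralizer (A : Set G),
      g * x * g⁻¹ ∈ centralizer (A : Set G) := by
    intro g hg x hx a ha
    have h1 : g⁻¹ * a * g ∈ A := by
      have := (mem_normalizer_iff.mp (inv_mem hg) a).mp ha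
      simpa using this
    have h2 := hx _ h1
    calc a * (g * x * g⁻¹) = g * (g⁻¹ * a * g * x) * g⁻¹ := by group
      _ = g * (x * (g⁻¹ * a * g)) * g⁻¹ := by rw [h2]
      _ = g * x * g⁻¹ * a := by group
  intro g hg
  rw [mem_normalizer_iff]
  refine fun x => ⟨key g hg x, fun hx => ?_⟩
  have := key g⁻¹ (inv_mem hg) _ hx
  simpa [mul_assoc] using this

theorem le_normalizer_commutator {H A B : Subgroup G} (hA : H ≤ normalizer (A : Set G))
    (hB : H ≤ normalizer (B : Set G)) : H ≤ normalizer ((⁅A, B⁆ : Subgroup G) : Set G) := by
  intro g hg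
  rw [← map_conj_eq_self_iff, map_commutator, map_conj_eq_self_iff.mpr (hA hg),
    map_conj_eq_self_iff.mpr (hB hg)]

end products

section layer

theorem map_layer_le_of_surjective (f : G →* G') (hf : Function.Surjective f) :
    (layer G).map f ≤ layer G' := by
  rw [map_le_iff_le_comap]
  refine sSup_le fun K hK => map_le_iff_le_comap.mp ?_
  by_cases h : K.map f = ⊥
  · rw [h]; exact bot_le
  · exact component_le_layer (component_map_of_surjective hK f hf h)

theorem map_layer_equiv (e : G ≃* G') : (layer G).map e.toMonoidHom = layer G' := by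
  refine le_antisymm (map_layer_le_of_surjective _ e.surjective) fun x hx => ?_
  exact ⟨e.symm x, map_layer_le_of_surjective e.symm.toMonoidHom e.symm.surjective ⟨x, hx, rfl⟩,
    by simp⟩

instance layer_characteristic_inst : (layer G).Characteristic :=
  characteristic_iff_map_eq.mpr fun e => map_layer_equiv e

theorem layer_normal : (layer G).Normal := inferInstance

theorem layer_le_genFitting : layer G ≤ generalizedFittingSubgroup G := le_sup_left

theorem fitting_le_genFitting : fittingSubgroup G ≤ generalizedFittingSubgroup G := le_sup_right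

theorem component_le_genFitting {K : Subgroup G} (h : IsComponent K) :
    K ≤ generalizedFittingSubgroup G := (component_le_layer h).trans layer_le_genFitting

theorem map_genFitting_le_of_surjective (f : G →* G') (hf : Function.Surjective f) :
    (generalizedFittingSubgroup G).map f ≤ generalizedFittingSubgroup G' := by
  unfold generalizedFittingSubgroup
  rw [Subgroup.map_sup]
  exact sup_le_sup (map_layer_le_of_surjective f hf) (map_fitting_le_of_surjective f hf)

theorem map_genFitting_equiv (e : G ≃* G') :
    (generalizedFittingSubgroup G).map e.toMonoidHom = generalizedFittingSubgroup G' := by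
  unfold generalizedFittingSubgroup
  rw [Subgroup.map_sup, map_layer_equiv, map_fitting_equiv]

instance genFitting_characteristic_inst : (generalizedFittingSubgroup G).Characteristic :=
  characteristic_iff_map_eq.mpr fun e => map_genFitting_equiv e

theorem genFitting_normal : (generalizedFittingSubgroup G).Normal := inferInstance

theorem layer_le_iff {H : Subgroup G} : layer G ≤ H ↔ ∀ K : Subgroup G, IsComponent K → K ≤ H :=
  sSup_le_iff

theorem layer_eq_bot_iff : layer G = ⊥ ↔ ∀ K : Subgroup G, ¬ IsComponent K := by
  rw [← le_bot_iff, layer_le_iff]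
  exact forall_congr' fun K => ⟨fun h hK => component_ne_bot hK (le_bot_iff.mp (h hK)),
    fun h hK => absurd hK h⟩

theorem hasComponent_iff_layer_ne_bot : HasComponent G ↔ layer G ≠ ⊥ := by
  rw [Ne, layer_eq_bot_iff, not_forall]
  exact exists_congr fun K => not_not.symm

theorem layer_eq_bot_of_solvable (h : Group.IsSolvable G) : layer G = ⊥ :=
  layer_eq_bot_iff.mpr fun K hK => quasisimple_not_solvable hK.2 inferInstance

theorem layer_eq_top_of_quasisimple (h : IsQuasisimple G) : layer G = ⊤ :=
  top_le_iff.mp (component_le_layer (isComponent_top_iff.mpr h))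

theorem component_commute_fitting {L : Subgroup G} (hL : IsComponent L) :
    ⁅L, fittingSubgroup G⁆ = ⊥ :=
  le_bot_iff.mp (commutator_sSup_right_le fun N ⟨hN, _⟩ =>
    (component_commute_of_solvable hL inferInstance le_normalizer_of_normal).le)

theorem layer_commute_of_forall {H : Subgroup G} (h : ∀ L : Subgroup G, IsComponent L → ⁅L, H⁆ = ⊥) :
    ⁅layer G, H⁆ = ⊥ :=
  le_bot_iff.mp (commutator_sSup_left_le fun L hL => (h L hL).le)

theorem layer_commute_fitting : ⁅layer G, fittingSubgroup G⁆ = ⊥ :=
  layer_commute_of_forall fun _ hL => component_commute_fitting hL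

/-- The layer commutes with every solvable subgroup that it normalizes. -/
theorem layer_commute_of_solvable {H : Subgroup G} (hs : Group.IsSolvable H)
    (hN : layer G ≤ normalizer (H : Set G)) : ⁅layer G, H⁆ = ⊥ :=
  layer_commute_of_forall fun _ hL =>
    component_commute_of_solvable hL hs ((component_le_layer hL).trans hN)

theorem layer_commute_of_solvable_subnormal {H : Subgroup G} (hs : Group.IsSolvable H)
    (hN : H.IsSubnormal) : ⁅layer G, H⁆ = ⊥ :=
  layer_commute_of_forall fun _ hL => component_commute_of_solvable_subnormal hL hs hN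

theorem component_le_normalizer_component {L K : Subgroup G} (hL : IsComponent L)
    (hK : IsComponent K) : L ≤ normalizer (K : Set G) := by
  rcases component_eq_or_commute hL hK with rfl | h
  · exact le_normalizer
  · exact le_normalizer_of_commutator_eq_bot h

theorem layer_le_normalizer_component {K : Subgroup G} (hK : IsComponent K) :
    layer G ≤ normalizer (K : Set G) :=
  layer_le_iff.mpr fun _ hL => component_le_normalizer_component hL hK

theorem genFitting_le_normalizer_component {K : Subgroup G} (hK : IsComponent K) :
    generalizedFittingSubgroup G ≤ normalizer (K : Set G) :=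
  sup_le (layer_le_normalizer_component hK) (le_normalizer_of_commutator_eq_bot
    (by rw [commutator_comm]; exact component_commute_fitting hK))

theorem component_normal_in_layer {K : Subgroup G} (hK : IsComponent K) :
    (K.subgroupOf (layer G)).Normal :=
  normal_subgroupOf_of_le_normalizer (layer_le_normalizer_component hK)

/-- A component lies in or centralizes a subnormal subgroup; either way it normalizes it. -/
theorem component_le_normalizer_of_subnormal {L H : Subgroup G} (hL : IsComponent L)
    (hH : H.IsSubnormal) : L ≤ normalizer (H : Set G) := by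
  rcases component_le_or_commute hL hH with h | h
  · exact h.trans le_normalizer
  · exact le_normalizer_of_commutator_eq_bot h

/-- The layer normalizes every subnormal subgroup. -/
theorem layer_le_normalizer_of_subnormal {H : Subgroup G} (hH : H.IsSubnormal) :
    layer G ≤ normalizer (H : Set G) :=
  layer_le_iff.mpr fun _ hL => component_le_normalizer_of_subnormal hL hH

theorem sSup_components_commutator_self {S : Set (Subgroup G)} (hS : ∀ K ∈ S, IsComponent K) :
    ⁅sSup S, sSup S⁆ = sSup S :=
  le_antisymm (commutator_le_self _) (sSup_le fun K hK =>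
    (component_commutator_self (hS K hK)).ge.trans (commutator_mono (le_sSup hK) (le_sSup hK)))

theorem layer_commutator_self : ⁅layer G, layer G⁆ = layer G :=
  sSup_components_commutator_self fun _ h => h

theorem layer_isPerfect : Group.IsPerfect (layer G) := isPerfect_iff.mpr layer_commutator_self

/-- `[E(G), L] = L` for a component `L`. -/
theorem commutator_layer_component {L : Subgroup G} (hL : IsComponent L) : ⁅layer G, L⁆ = L :=
  le_antisymm (le_normalizer_iff_commutator_le_right.mp (layer_le_normalizer_component hL))
    ((component_commutator_self hL).ge.trans (commutator_mono (component_le_layer hL) le_rfl))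

/-- The layer of a subnormal subgroup `H` is generated by the components of `G` inside `H`. -/
theorem map_layer_of_subnormal {H : Subgroup G} (hH : H.IsSubnormal) :
    (layer H).map H.subtype = sSup {K : Subgroup G | IsComponent K ∧ K ≤ H} := by
  refine le_antisymm ?_ (sSup_le fun K ⟨hK, hle⟩ => ?_)
  · rw [map_le_iff_le_comap]
    refine sSup_le fun K hK => map_le_iff_le_comap.mp (le_sSup ⟨?_, map_subtype_le K⟩)
    exact (isComponent_iff_map_subtype hH K).mp hK
  · rw [← map_subgroupOf_eq_of_le hle]
    exact map_mono (component_le_layer (component_subgroupOf hK hle))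

theorem map_layer_le_of_subnormal {H : Subgroup G} (hH : H.IsSubnormal) :
    (layer H).map H.subtype ≤ layer G := by
  rw [map_layer_of_subnormal hH]
  exact sSup_le fun K hK => component_le_layer hK.1

/-- A component of `G` inside an arbitrary subgroup `H` lies in the layer of `H`. -/
theorem component_le_map_layer {K H : Subgroup G} (hK : IsComponent K) (hle : K ≤ H) :
    K ≤ (layer H).map H.subtype := by
  rw [← map_subgroupOf_eq_of_le hle]
  exact map_mono (component_le_layer (component_subgroupOf hK hle))

theorem layer_le_map_layer {H : Subgroup G} (hle : layer G ≤ H) :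
    layer G ≤ (layer H).map H.subtype :=
  layer_le_iff.mpr fun _ hK => component_le_map_layer hK ((component_le_layer hK).trans hle)

theorem map_layer_eq_of_subnormal_of_le {H : Subgroup G} (hH : H.IsSubnormal) (hle : layer G ≤ H) :
    (layer H).map H.subtype = layer G :=
  le_antisymm (map_layer_le_of_subnormal hH) (layer_le_map_layer hle)

theorem layer_layer : layer (layer G) = ⊤ := by
  apply map_injective (layer G).subtype_injective
  rw [map_layer_eq_of_subnormal_of_le layer_normal.isSubnormal le_rfl, ← MonoidHom.range_eq_map,
    range_subtype]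

theorem map_genFitting_subtype (H : Subgroup G) : (generalizedFittingSubgroup H).map H.subtype =
    (layer H).map H.subtype ⊔ (fittingSubgroup H).map H.subtype := Subgroup.map_sup _ _ _

theorem map_genFitting_le_of_subnormal [Finite G] {H : Subgroup G} (hH : H.IsSubnormal) :
    (generalizedFittingSubgroup H).map H.subtype ≤ generalizedFittingSubgroup G := by
  rw [map_genFitting_subtype]
  exact sup_le_sup (map_layer_le_of_subnormal hH) (map_fitting_le_of_subnormal hH)

/-- A component commutes with the join of components different from it. -/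
theorem component_commute_sSup {L : Subgroup G} (hL : IsComponent L) {S : Set (Subgroup G)}
    (hS : ∀ K ∈ S, IsComponent K ∧ K ≠ L) : ⁅L, sSup S⁆ = ⊥ :=
  le_bot_iff.mp (commutator_sSup_right_le fun K hK =>
    (component_commute hL (hS K hK).1 (hS K hK).2.symm).le)

/-- Splitting the layer according to a predicate on components. -/
theorem layer_eq_sup_filter (P : Subgroup G → Prop) :
    layer G = sSup {K : Subgroup G | IsComponent K ∧ P K} ⊔
      sSup {K : Subgroup G | IsComponent K ∧ ¬ P K} := by
  refine le_antisymm (layer_le_iff.mpr fun K hK => ?_) (sup_le (sSup_le fun K hK =>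
    component_le_layer hK.1) (sSup_le fun K hK => component_le_layer hK.1))
  by_cases h : P K
  · exact le_sup_of_le_left (le_sSup ⟨hK, h⟩)
  · exact le_sup_of_le_right (le_sSup ⟨hK, h⟩)

theorem sSup_filter_commute (P : Subgroup G → Prop) :
    ⁅sSup {K : Subgroup G | IsComponent K ∧ P K},
      sSup {K : Subgroup G | IsComponent K ∧ ¬ P K}⁆ = ⊥ :=
  le_bot_iff.mp (commutator_sSup_left_le fun L hL => (component_commute_sSup hL.1
    fun K hK => ⟨hK.1, fun h => hK.2 (h ▸ hL.2)⟩).le)

/-- `E(G) = L C_{E(G)}(L)`. -/
theorem layer_eq_component_sup_centralizer {L : Subgroup G} (hL : IsComponent L) :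
    layer G = L ⊔ (layer G ⊓ centralizer (L : Set G)) := by
  refine le_antisymm (layer_le_iff.mpr fun K hK => ?_)
    (sup_le (component_le_layer hL) inf_le_left)
  rcases component_eq_or_commute hK hL with rfl | h
  · exact le_sup_left
  · exact le_sup_of_le_right
      (le_inf (component_le_layer hK) (commutator_eq_bot_iff_le_centralizer.mp h))

/-- A component lying in a join of components is one of them. -/
theorem component_mem_of_le_sSup {L : Subgroup G} (hL : IsComponent L) {S : Set (Subgroup G)}
    (hS : ∀ K ∈ S, IsComponent K) (hle : L ≤ sSup S) : L ∈ S := by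
  by_contra h
  have := component_commute_sSup hL (S := S) fun K hK => ⟨hS K hK, fun e => h (e ▸ hK)⟩
  exact quasisimple_commutator_ne_bot hL.2 (commutator_eq_bot_mono this le_rfl hle)

/-- For any subgroup `U`, a component lies in `[E(G), U]` or commutes with `U`. -/
theorem component_le_commutator_or_commute {L : Subgroup G} (hL : IsComponent L) (U : Subgroup G) :
    L ≤ ⁅layer G, U⁆ ∨ ⁅L, U⁆ = ⊥ := by
  rcases component_le_or_commute_of_normalizes hL (N := ⁅layer G, U⁆)
    ((component_le_layer hL).trans (normalizer_commutator_ge_left _ _)) with h | h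
  · exact Or.inl h
  · right
    rw [commutator_comm]
    refine commutator_eq_bot_of_perfect (component_commutator_self hL) ?_
    rw [commutator_comm, commutator_comm U L]
    exact commutator_eq_bot_mono h le_rfl (commutator_mono (component_le_layer hL) le_rfl)

/-- For any subgroup `U`, a component `L` lies in `[L, U]` or commutes with `U`. -/
theorem component_le_commutator_self_or_commute {L : Subgroup G} (hL : IsComponent L)
    (U : Subgroup G) : L ≤ ⁅L, U⁆ ∨ ⁅L, U⁆ = ⊥ := by
  rcases component_le_or_commute_of_normalizes hL (N := ⁅L, U⁆)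
    (normalizer_commutator_ge_left _ _) with h | h
  · exact Or.inl h
  · right
    rw [commutator_comm]
    refine commutator_eq_bot_of_perfect (component_commutator_self hL) ?_
    rw [commutator_comm, commutator_comm U L]
    exact h

theorem layer_eq_centralizer_sup_commutator (U : Subgroup G) :
    layer G = (layer G ⊓ centralizer (U : Set G)) ⊔ ⁅layer G, U⁆ := by
  refine le_antisymm (layer_le_iff.mpr fun K hK => ?_)
    (sup_le inf_le_left (commutator_le_left _ _))
  rcases component_le_commutator_or_commute hK U with h | h
  · exact le_sup_of_le_right h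
  · exact le_sup_of_le_left
      (le_inf (component_le_layer hK) (commutator_eq_bot_iff_le_centralizer.mp h))

/-- `Z(E(G)) = F(G) ∩ E(G)`. -/
theorem layer_inf_centralizer_eq :
    layer G ⊓ centralizer (layer G : Set G) = fittingSubgroup G ⊓ layer G := by
  refine le_antisymm (le_inf (le_fitting inferInstance ?_) inf_le_left)
    (le_inf inf_le_right (inf_le_left.trans ?_))
  · refine isNilpotent_of_commutator_commutator_eq_bot ?_
    refine commutator_eq_bot_mono (A := layer G) (B := centralizer (layer G : Set G)) ?_
      ((commutator_le_self _).trans inf_le_left) inf_le_right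
    rw [commutator_comm, commutator_eq_bot_iff_le_centralizer]
  · rw [← commutator_eq_bot_iff_le_centralizer, commutator_comm]
    exact layer_commute_fitting

/-- `C_{F*(G)}(E(G)) = F(G)`. -/
theorem genFitting_inf_centralizer_layer :
    generalizedFittingSubgroup G ⊓ centralizer (layer G : Set G) = fittingSubgroup G := by
  have hF : fittingSubgroup G ≤ centralizer (layer G : Set G) := by
    rw [← commutator_eq_bot_iff_le_centralizer, commutator_comm]
    exact layer_commute_fitting
  unfold generalizedFittingSubgroup
  rw [sup_comm, sup_inf_eq_of_le_normalizer le_normalizer_of_normal hF, layer_inf_centralizer_eq]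
  exact sup_eq_left.mpr inf_le_left

/-- The centre of a join of components is the join of their centres. -/
theorem sSup_components_inf_centralizer_le {S : Set (Subgroup G)} (hfin : S.Finite)
    (hS : ∀ K ∈ S, IsComponent K) :
    sSup S ⊓ centralizer ((sSup S : Subgroup G) : Set G) ≤
      ⨆ K : S, (K : Subgroup G) ⊓ centralizer ((K : Subgroup G) : Set G) := by
  induction S, hfin using Set.Finite.induction_on with
  | empty => simp
  | @insert L S hLS _ ih =>
    have hL : IsComponent L := hS L (Set.mem_insert _ _)
    have hS' : ∀ K ∈ S, IsComponent K := fun K hK => hS K (Set.mem_insert_of_mem _ hK)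
    have hc : ⁅L, sSup S⁆ = ⊥ :=
      component_commute_sSup hL fun K hK => ⟨hS' K hK, fun e => hLS (e ▸ hK)⟩
    rw [sSup_insert]
    rintro x ⟨hx, hxc⟩
    obtain ⟨a, ha, b, hb, rfl⟩ := (mem_sup_of_commutator_eq_bot hc).mp hx
    have hb' : b ∈ centralizer (L : Set G) :=
      le_centralizer_iff.mp (commutator_eq_bot_iff_le_centralizer.mp hc) hb
    have ha' : a ∈ centralizer ((sSup S : Subgroup G) : Set G) :=
      commutator_eq_bot_iff_le_centralizer.mp hc ha
    have h1 : a * b ∈ centralizer (L : Set G) := centralizer_le (le_sup_left (b := sSup S)) hxc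
    have h2 : a * b ∈ centralizer ((sSup S : Subgroup G) : Set G) :=
      centralizer_le (le_sup_right (a := L)) hxc
    refine mul_mem ?_ ?_
    · refine mem_iSup_of_mem ⟨L, Set.mem_insert _ _⟩ ⟨ha, ?_⟩
      simpa using mul_mem h1 (inv_mem hb')
    · have h3 : b ∈ centralizer ((sSup S : Subgroup G) : Set G) := by
        simpa using mul_mem (inv_mem ha') h2
      have h4 : (⨆ K : S, (K : Subgroup G) ⊓ centralizer ((K : Subgroup G) : Set G)) ≤
          ⨆ K : ↥(insert L S), (K : Subgroup G) ⊓ centralizer ((K : Subgroup G) : Set G) :=
        iSup_le fun K : S => le_iSup_of_le (f := fun K : ↥(insert L S) =>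
          (K : Subgroup G) ⊓ centralizer ((K : Subgroup G) : Set G))
          ⟨K, Set.mem_insert_of_mem _ K.2⟩ le_rfl
      exact h4 (ih hS' ⟨hb, h3⟩)

theorem component_center_le_centralizer_genFitting {L : Subgroup G} (hL : IsComponent L) :
    L ⊓ centralizer (L : Set G) ≤ centralizer (generalizedFittingSubgroup G : Set G) := by
  rw [← commutator_eq_bot_iff_le_centralizer]
  refine commutator_sup_right_eq_bot ?_
    (commutator_eq_bot_mono (component_commute_fitting hL) inf_le_left le_rfl)
  rw [commutator_comm]
  refine layer_commute_of_forall fun K hK => ?_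
  rcases component_eq_or_commute hK hL with rfl | h
  · rw [commutator_comm, commutator_eq_bot_iff_le_centralizer]; exact inf_le_right
  · exact commutator_eq_bot_mono h le_rfl inf_le_left

theorem component_center_le_fitting {L : Subgroup G} (hL : IsComponent L) :
    L ⊓ centralizer (L : Set G) ≤ fittingSubgroup G := by
  rw [← genFitting_inf_centralizer_layer]
  exact le_inf (inf_le_left.trans (component_le_genFitting hL))
    ((component_center_le_centralizer_genFitting hL).trans (centralizer_le layer_le_genFitting))

theorem component_inf_fitting {L : Subgroup G} (hL : IsComponent L) :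
    L ⊓ fittingSubgroup G = L ⊓ centralizer (L : Set G) := by
  refine le_antisymm (inf_le_inf_left _ ?_) (le_inf inf_le_left (component_center_le_fitting hL))
  rw [← commutator_eq_bot_iff_le_centralizer, commutator_comm]
  exact component_commute_fitting hL

end layer

section finite

variable [Finite G]

/-- **Bender**: `C_G(F*(G)) ≤ F*(G)`. -/
theorem centralizer_genFitting_le :
    centralizer (generalizedFittingSubgroup G : Set G) ≤ generalizedFittingSubgroup G := by
  suffices h : ∀ N : Subgroup G, N.IsSubnormal →
      N ≤ centralizer (generalizedFittingSubgroup G : Set G) → N ≤ generalizedFittingSubgroup G from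
    h _ (Normal.isSubnormal inferInstance) le_rfl
  intro N
  induction N using WellFoundedLT.induction with
  | ind N ih =>
    intro hN hC
    have key : ∀ M : Subgroup G, M ≤ N → N ≤ normalizer (M : Set G) → M = N ∨ ⁅M, N⁆ = ⊥ := by
      intro M hM hn
      rcases hM.eq_or_lt with h | h
      · exact Or.inl h
      · right
        have := ih M h (isSubnormal_of_le_normalizer hM hn hN) (hM.trans hC)
        rw [commutator_comm, commutator_eq_bot_iff_le_centralizer]
        exact hC.trans (centralizer_le this)
    rcases key ⁅N, N⁆ (commutator_le_self N) (normalizer_commutator_ge_left N N) with h | h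
    · by_cases hb : N = ⊥
      · rw [hb]; exact bot_le
      · exact component_le_genFitting ⟨hN, isQuasisimple_iff_ambient.mpr ⟨h, hb, key⟩⟩
    · exact (le_fitting_of_subnormal hN (isNilpotent_of_commutator_commutator_eq_bot h)).trans
        fitting_le_genFitting

theorem centralizer_genFitting_le_fitting :
    centralizer (generalizedFittingSubgroup G : Set G) ≤ fittingSubgroup G := by
  rw [← genFitting_inf_centralizer_layer]
  exact le_inf centralizer_genFitting_le (centralizer_le layer_le_genFitting)

theorem genFitting_eq_bot_iff : generalizedFittingSubgroup G = ⊥ ↔ Subsingleton G := by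
  constructor
  · intro h
    have := centralizer_genFitting_le (G := G)
    rw [h] at this
    refine subsingleton_iff.mpr fun x y => ?_
    have hx : ∀ z : G, z = 1 := fun z => mem_bot.mp (this (by intro w hw; simp_all))
    rw [hx x, hx y]
  · intro h
    exact Subsingleton.elim _ _

theorem centralizer_fitting_le_iff :
    centralizer (fittingSubgroup G : Set G) ≤ fittingSubgroup G ↔ layer G = ⊥ := by
  constructor
  · intro h
    refine layer_eq_bot_iff.mpr fun K hK => quasisimple_not_le_solvable hK.2 fitting_isSolvable ?_
    exact (commutator_eq_bot_iff_le_centralizer.mp (component_commute_fitting hK)).trans h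
  · intro h
    have := centralizer_genFitting_le (G := G)
    unfold generalizedFittingSubgroup at this
    rwa [h, bot_sup_eq] at this

omit [Finite G] in
/-- A subnormal subgroup of `G` inside `F*(G)` is the product of its intersection with `F(G)` and
the components it contains. -/
theorem eq_sup_of_subnormal_of_le_genFitting {S : Subgroup G} (hS : S.IsSubnormal)
    (hle : S ≤ generalizedFittingSubgroup G) :
    S = (layer S).map S.subtype ⊔ (fittingSubgroup G ⊓ S) := by
  rw [map_layer_of_subnormal hS]
  set A := sSup {K : Subgroup G | IsComponent K ∧ K ≤ S} with hA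
  set B := sSup {K : Subgroup G | IsComponent K ∧ ¬ K ≤ S} with hB
  have hAS : A ≤ S := sSup_le fun K hK => hK.2
  have hE : layer G = A ⊔ B := layer_eq_sup_filter _
  have hAB : ⁅A, B⁆ = ⊥ := sSup_filter_commute _
  have hAF : ⁅A, fittingSubgroup G⁆ = ⊥ :=
    commutator_eq_bot_mono layer_commute_fitting (hE ▸ le_sup_left) le_rfl
  have hBS : ⁅B, S⁆ = ⊥ := le_bot_iff.mp (commutator_sSup_left_le fun K hK =>
    ((component_le_or_commute hK.1 hS).resolve_left hK.2).le)
  have hABF := commutator_sup_right_eq_bot hAB hAF
  refine le_antisymm ?_ (sup_le hAS inf_le_right)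
  have h1 : S = (A ⊔ (B ⊔ fittingSubgroup G)) ⊓ S := by
    rw [← sup_assoc, ← hE]
    exact (inf_eq_right.mpr hle).symm
  rw [sup_inf_eq_of_le_normalizer' (le_normalizer_of_commutator_eq_bot hABF) hAS] at h1
  refine h1.le.trans (sup_le_sup_left (le_inf ?_ inf_le_right) A)
  refine le_trans (le_inf (inf_le_right.trans hle) ?_) genFitting_inf_centralizer_layer.le
  rw [← commutator_eq_bot_iff_le_centralizer, commutator_comm, hE]
  exact commutator_sup_left_eq_bot (commutator_eq_bot_mono hABF le_rfl inf_le_left)
    (commutator_eq_bot_mono hBS le_rfl inf_le_right)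

/-- `F*(H) = F*(G) ∩ H` for a subnormal subgroup `H`. -/
theorem map_genFitting_of_subnormal {H : Subgroup G} (hH : H.IsSubnormal) :
    (generalizedFittingSubgroup H).map H.subtype = generalizedFittingSubgroup G ⊓ H := by
  refine le_antisymm (le_inf (map_genFitting_le_of_subnormal hH) (map_subtype_le _)) ?_
  have hS : (generalizedFittingSubgroup G ⊓ H).IsSubnormal := genFitting_normal.isSubnormal.inf hH
  rw [eq_sup_of_subnormal_of_le_genFitting hS inf_le_left, map_genFitting_subtype,
    map_fitting_of_subnormal hH, map_layer_of_subnormal hH, map_layer_of_subnormal hS]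
  exact sup_le_sup (sSup_le_sSup fun K hK => ⟨hK.1, hK.2.trans inf_le_right⟩)
    (inf_le_inf_left _ inf_le_right)

theorem genFitting_eq_top_of_subnormal_of_le {S : Subgroup G} (hS : S.IsSubnormal)
    (hle : S ≤ generalizedFittingSubgroup G) : generalizedFittingSubgroup S = ⊤ := by
  apply map_injective S.subtype_injective
  rw [map_genFitting_of_subnormal hS, ← MonoidHom.range_eq_map, range_subtype, inf_eq_right.mpr hle]

theorem genFitting_genFitting : generalizedFittingSubgroup (generalizedFittingSubgroup G) = ⊤ :=
  genFitting_eq_top_of_subnormal_of_le genFitting_normal.isSubnormal le_rfl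

omit [Finite G] in
/-- A subnormal subgroup containing its centralizer contains the layer. -/
theorem layer_le_of_centralizer_le {Y : Subgroup G} (hY : Y.IsSubnormal)
    (hC : centralizer (Y : Set G) ≤ Y) : layer G ≤ Y :=
  layer_le_iff.mpr fun _ hK => (component_le_or_commute hK hY).elim id
    fun h => (commutator_eq_bot_iff_le_centralizer.mp h).trans hC

end finite

end CL.Sig
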