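import Cfsg.Agent.Base
import Cfsg.Agent.Sig.CompLayer
import Cfsg.Agent.Solv.Subnormal
import Cfsg.Agent.Solv.Fitting

/-!
# Components, layer and `F*` of a subgroup, in ambient form

`CompIn K H`: `K` is a component of the subgroup `H`; `layerIn H = E(H)`, `fstarIn H = F*(H)`,
all as subgroups of the ambient group.
-/

set_option autoImplicit false

namespace CL.Sig

open Cfsg Subgroup
open scoped commutatorElement IsMulCommutative Pointwise

variable {G G' : Type*} [Group G] [Group G']

/-- `K` is a component of `H` (both subgroups of `G`). -/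
def CompIn (K H : Subgroup G) : Prop := SubnIn K H ∧ IsQuasisimple K

/-- `E(H)` as a subgroup of `G`. -/
def layerIn (H : Subgroup G) : Subgroup G := (layer H).map H.subtype

/-- `F*(H)` as a subgroup of `G`. -/
def fstarIn (H : Subgroup G) : Subgroup G := (generalizedFittingSubgroup H).map H.subtype

theorem layerIn_def (H : Subgroup G) : layerIn H = (layer H).map H.subtype := rfl

theorem fstarIn_def (H : Subgroup G) :
    fstarIn H = (generalizedFittingSubgroup H).map H.subtype := rfl

theorem compIn_iff {K H : Subgroup G} : CompIn K H ↔ K ≤ H ∧ IsComponent (K.subgroupOf H) := by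
  unfold CompIn IsComponent
  rw [SubnIn.iff_subgroupOf, and_assoc]
  exact and_congr_right fun h => and_congr_right fun _ => (isQuasisimple_subgroupOf_iff h).symm

theorem compIn_top_iff {K : Subgroup G} : CompIn K ⊤ ↔ IsComponent K :=
  and_congr_left fun _ => SubnIn.top_iff

theorem compIn_map_subtype_iff {H : Subgroup G} {K : Subgroup H} :
    CompIn (K.map H.subtype) H ↔ IsComponent K := by
  rw [compIn_iff, subgroupOf, comap_map_eq_self_of_injective H.subtype_injective]
  exact and_iff_right (map_subtype_le K)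

theorem compIn_self {K : Subgroup G} (h : IsQuasisimple K) : CompIn K K := ⟨SubnIn.refl K, h⟩

theorem compIn_of_normIn {K H : Subgroup G} (h : IsQuasisimple K) (hn : NormIn K H) : CompIn K H :=
  ⟨hn.subnIn, h⟩

theorem compIn_of_isComponent {K H : Subgroup G} (h : IsComponent K) (hle : K ≤ H) : CompIn K H :=
  ⟨SubnIn.of_isSubnormal h.1 hle, h.2⟩

/-- Commutators are trivial in a subgroup iff they are trivial in the ambient group. -/
theorem commutator_subgroupOf_eq_bot_iff {A B H : Subgroup G} (hA : A ≤ H) (hB : B ≤ H) :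
    ⁅A.subgroupOf H, B.subgroupOf H⁆ = ⊥ ↔ ⁅A, B⁆ = ⊥ := by
  rw [← Subgroup.map_eq_bot_iff_of_injective _ H.subtype_injective, map_commutator,
    map_subgroupOf_eq_of_le hA, map_subgroupOf_eq_of_le hB]

theorem subgroupOf_le_subgroupOf_iff {A B H : Subgroup G} (hA : A ≤ H) :
    A.subgroupOf H ≤ B.subgroupOf H ↔ A ≤ B :=
  ⟨fun h x hx => h (show (⟨x, hA hx⟩ : H) ∈ A.subgroupOf H from hx), fun h => comap_mono h⟩

namespace CompIn

variable {K L H V : Subgroup G}

theorem subnIn (h : CompIn K H) : SubnIn K H := h.1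

theorem quasisimple (h : CompIn K H) : IsQuasisimple K := h.2

theorem le (h : CompIn K H) : K ≤ H := h.1.le

theorem isComponent (h : CompIn K H) : IsComponent (K.subgroupOf H) := (compIn_iff.mp h).2

theorem commutator_self (h : CompIn K H) : ⁅K, K⁆ = K := quasisimple_commutator_self h.2

theorem ne_bot (h : CompIn K H) : K ≠ ⊥ := quasisimple_ne_bot h.2

theorem of_le (h : CompIn K H) (h1 : K ≤ V) (h2 : V ≤ H) : CompIn K V := ⟨h.1.of_le h1 h2, h.2⟩

theorem trans (h : CompIn K H) (h' : SubnIn H V) : CompIn K V := ⟨h.1.trans h', h.2⟩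

theorem isComponent_of_isSubnormal (h : CompIn K H) (hH : H.IsSubnormal) : IsComponent K :=
  ⟨h.1.isSubnormal hH, h.2⟩

theorem map (h : CompIn K H) (f : G →* G') (hne : K.map f ≠ ⊥) : CompIn (K.map f) (H.map f) :=
  ⟨h.1.map f, quasisimple_map h.2 f hne⟩

theorem map_of_injective (h : CompIn K H) {f : G →* G'} (hf : Function.Injective f) :
    CompIn (K.map f) (H.map f) :=
  ⟨h.1.map f, (isQuasisimple_map_iff_of_injective f hf).mpr h.2⟩

theorem conj (h : CompIn K H) (g : G) : CompIn (MulAut.conj g • K) (MulAut.conj g • H) :=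
  h.map_of_injective (f := (MulAut.conj g).toMonoidHom) (MulAut.conj g).injective

theorem conj_of_mem_normalizer (h : CompIn K H) {g : G} (hg : g ∈ normalizer (H : Set G)) :
    CompIn (MulAut.conj g • K) H := by
  have := h.conj g
  rwa [Cj.conj_eq_of_mem_normalizer hg] at this

theorem conj_of_mem (h : CompIn K H) {g : G} (hg : g ∈ H) : CompIn (MulAut.conj g • K) H :=
  h.conj_of_mem_normalizer (le_normalizer hg)

theorem subgroupOf (h : CompIn K H) (hV : H ≤ V) : CompIn (K.subgroupOf V) (H.subgroupOf V) :=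
  ⟨h.1.comap _, (isQuasisimple_subgroupOf_iff (h.le.trans hV)).mpr h.2⟩

theorem le_layerIn (h : CompIn K H) : K ≤ layerIn H := by
  rw [← map_subgroupOf_eq_of_le h.le]
  exact map_mono (component_le_layer h.isComponent)

/-- A component of `H` lies in, or commutes with, a subgroup of `H` that it normalizes. -/
theorem le_or_commute_of_normalizes (h : CompIn K H) (hV : V ≤ H)
    (hn : K ≤ normalizer (V : Set G)) : K ≤ V ∨ ⁅K, V⁆ = ⊥ := by
  have := component_le_or_commute_of_normalizes h.isComponent (N := V.subgroupOf H)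
    ((comap_mono hn).trans (le_normalizer_comap _))
  rwa [commutator_subgroupOf_eq_bot_iff h.le hV, subgroupOf_le_subgroupOf_iff h.le] at this

theorem le_or_commute (h : CompIn K H) (hV : SubnIn V H) : K ≤ V ∨ ⁅K, V⁆ = ⊥ := by
  have := component_le_or_commute h.isComponent (SubnIn.iff_subgroupOf.mp hV).2
  rwa [commutator_subgroupOf_eq_bot_iff h.le hV.le, subgroupOf_le_subgroupOf_iff h.le] at this

theorem commute_of_solvable (h : CompIn K H) (hV : V ≤ H) (hs : Group.IsSolvable V)
    (hn : K ≤ normalizer (V : Set G)) : ⁅K, V⁆ = ⊥ :=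
  (h.le_or_commute_of_normalizes hV hn).resolve_left (quasisimple_not_le_solvable h.2 hs)

theorem commute_of_solvable_subnIn (h : CompIn K H) (hV : SubnIn V H) (hs : Group.IsSolvable V) :
    ⁅K, V⁆ = ⊥ :=
  (h.le_or_commute hV).resolve_left (quasisimple_not_le_solvable h.2 hs)

theorem eq_of_le (h : CompIn K H) (hL : IsQuasisimple L) (hle : K ≤ L) (hLH : L ≤ H) : K = L :=
  eq_of_le_quasisimple hL hle (SubnIn.iff_subgroupOf.mp (h.1.of_le hle hLH)).2
    (quasisimple_commutator_ne_bot h.2)

theorem commute (h : CompIn K H) (hL : CompIn L H) (hne : K ≠ L) : ⁅K, L⁆ = ⊥ :=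
  (h.le_or_commute hL.1).resolve_left fun hle => hne (h.eq_of_le hL.2 hle hL.le)

theorem eq_or_commute (h : CompIn K H) (hL : CompIn L H) : K = L ∨ ⁅K, L⁆ = ⊥ := by
  by_cases e : K = L
  · exact Or.inl e
  · exact Or.inr (h.commute hL e)

theorem le_normalizer_of_subnIn (h : CompIn K H) (hV : SubnIn V H) :
    K ≤ normalizer (V : Set G) := by
  rcases h.le_or_commute hV with h1 | h1
  · exact h1.trans le_normalizer
  · exact le_normalizer_of_commutator_eq_bot h1

theorem commute_fittingOf (h : CompIn K H) : ⁅K, fittingOf H⁆ = ⊥ := by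
  have := component_commute_fitting h.isComponent
  rwa [← fittingOf_subgroupOf, commutator_subgroupOf_eq_bot_iff h.le (fittingOf_le H)] at this

/-- For `U ≤ H`, a component `K` of `H` lies in `[K, U]` or commutes with `U`. -/
theorem le_commutator_or_commute (h : CompIn K H) (hV : V ≤ H) : K ≤ ⁅K, V⁆ ∨ ⁅K, V⁆ = ⊥ := by
  rcases h.le_or_commute_of_normalizes (V := ⁅K, V⁆)
    ((commutator_le_sup K V).trans (sup_le h.le hV)) (normalizer_commutator_ge_left _ _) with h1 | h1
  · exact Or.inl h1
  · right
    rw [commutator_comm]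
    refine commutator_eq_bot_of_perfect h.commutator_self ?_
    rw [commutator_comm, commutator_comm V K]
    exact h1

/-- An element of `H` moving a component `K` cannot centralize a non-central element of `K`. -/
theorem mem_normalizer_of_inf (h : CompIn K H) {g : G} (hg : g ∈ H)
    (hne : ¬ K ⊓ MulAut.conj g • K ≤ centralizer (K : Set G)) : g ∈ normalizer (K : Set G) := by
  rw [Cj.mem_normalizer_iff_conj_eq]
  rcases (h.conj_of_mem hg).eq_or_commute h with h1 | h1
  · exact h1
  · exact absurd (inf_le_right.trans (commutator_eq_bot_iff_le_centralizer.mp h1)) hne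

end CompIn

section layerIn

variable {H V : Subgroup G}

theorem layerIn_le (H : Subgroup G) : layerIn H ≤ H := map_subtype_le _

theorem fstarIn_le (H : Subgroup G) : fstarIn H ≤ H := map_subtype_le _

theorem fstarIn_eq (H : Subgroup G) : fstarIn H = layerIn H ⊔ fittingOf H := Subgroup.map_sup _ _ _

theorem layerIn_le_fstarIn (H : Subgroup G) : layerIn H ≤ fstarIn H := by
  rw [fstarIn_eq]; exact le_sup_left

theorem fittingOf_le_fstarIn (H : Subgroup G) : fittingOf H ≤ fstarIn H := by
  rw [fstarIn_eq]; exact le_sup_right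

theorem CompIn.le_fstarIn {K : Subgroup G} (h : CompIn K H) : K ≤ fstarIn H :=
  h.le_layerIn.trans (layerIn_le_fstarIn H)

theorem layerIn_subgroupOf (H : Subgroup G) : (layerIn H).subgroupOf H = layer H :=
  comap_map_eq_self_of_injective H.subtype_injective _

theorem fstarIn_subgroupOf (H : Subgroup G) :
    (fstarIn H).subgroupOf H = generalizedFittingSubgroup H :=
  comap_map_eq_self_of_injective H.subtype_injective _

theorem layerIn_eq_sSup (H : Subgroup G) : layerIn H = sSup {K | CompIn K H} := by
  refine le_antisymm ?_ (sSup_le fun K hK => hK.le_layerIn)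
  rw [layerIn, map_le_iff_le_comap]
  exact sSup_le fun K hK => map_le_iff_le_comap.mp (le_sSup (compIn_map_subtype_iff.mpr hK))

theorem layerIn_le_iff : layerIn H ≤ V ↔ ∀ K, CompIn K H → K ≤ V := by
  rw [layerIn_eq_sSup, sSup_le_iff]; rfl

theorem layerIn_eq_bot_iff : layerIn H = ⊥ ↔ ∀ K, ¬ CompIn K H := by
  rw [← le_bot_iff, layerIn_le_iff]
  exact forall_congr' fun K => ⟨fun h hK => hK.ne_bot (le_bot_iff.mp (h hK)),
    fun h hK => absurd hK h⟩

theorem layerIn_eq_bot_iff_layer : layerIn H = ⊥ ↔ layer H = ⊥ :=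
  Subgroup.map_eq_bot_iff_of_injective _ H.subtype_injective

theorem layerIn_top : layerIn (⊤ : Subgroup G) = layer G := map_layer_equiv topEquiv

theorem fstarIn_top : fstarIn (⊤ : Subgroup G) = generalizedFittingSubgroup G :=
  map_genFitting_equiv topEquiv

theorem normalizer_le_normalizer_layerIn (H : Subgroup G) :
    normalizer (H : Set G) ≤ normalizer (layerIn H : Set G) :=
  normalizer_le_normalizer_map_char H _

theorem normalizer_le_normalizer_fstarIn (H : Subgroup G) :
    normalizer (H : Set G) ≤ normalizer (fstarIn H : Set G) :=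
  normalizer_le_normalizer_map_char H _

theorem normIn_layerIn (H : Subgroup G) : NormIn (layerIn H) H :=
  ⟨layerIn_le H, le_normalizer.trans (normalizer_le_normalizer_layerIn H)⟩

theorem normIn_fstarIn (H : Subgroup G) : NormIn (fstarIn H) H :=
  ⟨fstarIn_le H, le_normalizer.trans (normalizer_le_normalizer_fstarIn H)⟩

theorem normIn_fittingOf (H : Subgroup G) : NormIn (fittingOf H) H :=
  ⟨fittingOf_le H, le_normalizer_fittingOf H⟩

theorem map_layerIn_le (f : G →* G') (H : Subgroup G) : (layerIn H).map f ≤ layerIn (H.map f) := by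
  have : (H.map f).subtype.comp (f.subgroupMap H) = f.comp H.subtype := rfl
  rw [layerIn, map_map, ← this, ← map_map]
  exact map_mono (map_layer_le_of_surjective _ (f.subgroupMap_surjective H))

theorem map_fstarIn_le (f : G →* G') (H : Subgroup G) : (fstarIn H).map f ≤ fstarIn (H.map f) := by
  have : (H.map f).subtype.comp (f.subgroupMap H) = f.comp H.subtype := rfl
  rw [fstarIn, map_map, ← this, ← map_map]
  exact map_mono (map_genFitting_le_of_surjective _ (f.subgroupMap_surjective H))

theorem map_layerIn_of_injective {f : G →* G'} (hf : Function.Injective f) (H : Subgroup G) :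
    (layerIn H).map f = layerIn (H.map f) := by
  have : (H.map f).subtype.comp (H.equivMapOfInjective f hf).toMonoidHom = f.comp H.subtype := rfl
  rw [layerIn, map_map, ← this, ← map_map, map_layer_equiv]
  rfl

theorem map_fstarIn_of_injective {f : G →* G'} (hf : Function.Injective f) (H : Subgroup G) :
    (fstarIn H).map f = fstarIn (H.map f) := by
  have : (H.map f).subtype.comp (H.equivMapOfInjective f hf).toMonoidHom = f.comp H.subtype := rfl
  rw [fstarIn, map_map, ← this, ← map_map, map_genFitting_equiv]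
  rfl

theorem map_fittingOf_of_injective {f : G →* G'} (hf : Function.Injective f) (H : Subgroup G) :
    (fittingOf H).map f = fittingOf (H.map f) := by
  have : (H.map f).subtype.comp (H.equivMapOfInjective f hf).toMonoidHom = f.comp H.subtype := rfl
  rw [fittingOf, map_map, ← this, ← map_map, map_fitting_equiv]
  rfl

theorem conj_layerIn (g : G) (H : Subgroup G) :
    MulAut.conj g • layerIn H = layerIn (MulAut.conj g • H) :=
  map_layerIn_of_injective (f := (MulAut.conj g).toMonoidHom) (MulAut.conj g).injective H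

theorem conj_fstarIn (g : G) (H : Subgroup G) :
    MulAut.conj g • fstarIn H = fstarIn (MulAut.conj g • H) :=
  map_fstarIn_of_injective (f := (MulAut.conj g).toMonoidHom) (MulAut.conj g).injective H

theorem conj_fittingOf (g : G) (H : Subgroup G) :
    MulAut.conj g • fittingOf H = fittingOf (MulAut.conj g • H) :=
  map_fittingOf_of_injective (f := (MulAut.conj g).toMonoidHom) (MulAut.conj g).injective H

theorem layerIn_subgroupOf_of_le (h : H ≤ V) :
    (layerIn H).subgroupOf V = layerIn (H.subgroupOf V) := by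
  rw [← map_subtype_inj, map_layerIn_of_injective V.subtype_injective, map_subgroupOf_eq_of_le h,
    map_subgroupOf_eq_of_le ((layerIn_le H).trans h)]

theorem fstarIn_subgroupOf_of_le (h : H ≤ V) :
    (fstarIn H).subgroupOf V = fstarIn (H.subgroupOf V) := by
  rw [← map_subtype_inj, map_fstarIn_of_injective V.subtype_injective, map_subgroupOf_eq_of_le h,
    map_subgroupOf_eq_of_le ((fstarIn_le H).trans h)]

theorem layerIn_commute_of_forall (h : ∀ K, CompIn K H → ⁅K, V⁆ = ⊥) : ⁅layerIn H, V⁆ = ⊥ := by
  rw [layerIn_eq_sSup]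
  exact le_bot_iff.mp (commutator_sSup_left_le fun K hK => (h K hK).le)

theorem layerIn_commute_fittingOf (H : Subgroup G) : ⁅layerIn H, fittingOf H⁆ = ⊥ :=
  layerIn_commute_of_forall fun _ hK => hK.commute_fittingOf

theorem layerIn_commute_of_solvable (hV : V ≤ H) (hs : Group.IsSolvable V)
    (hn : layerIn H ≤ normalizer (V : Set G)) : ⁅layerIn H, V⁆ = ⊥ :=
  layerIn_commute_of_forall fun _ hK => hK.commute_of_solvable hV hs (hK.le_layerIn.trans hn)

theorem layerIn_le_normalizer_of_subnIn (hV : SubnIn V H) : layerIn H ≤ normalizer (V : Set G) :=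
  layerIn_le_iff.mpr fun _ hK => hK.le_normalizer_of_subnIn hV

theorem CompIn.layerIn_le_normalizer {K : Subgroup G} (h : CompIn K H) :
    layerIn H ≤ normalizer (K : Set G) := layerIn_le_normalizer_of_subnIn h.1

theorem CompIn.fstarIn_le_normalizer {K : Subgroup G} (h : CompIn K H) :
    fstarIn H ≤ normalizer (K : Set G) := by
  rw [fstarIn_eq]
  exact sup_le h.layerIn_le_normalizer (le_normalizer_of_commutator_eq_bot
    (by rw [commutator_comm]; exact h.commute_fittingOf))

theorem layerIn_commutator_self (H : Subgroup G) : ⁅layerIn H, layerIn H⁆ = layerIn H := by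
  rw [layerIn, ← map_commutator, layer_commutator_self]

theorem layerIn_eq_self_of_quasisimple (h : IsQuasisimple H) : layerIn H = H :=
  le_antisymm (layerIn_le H) (compIn_self h).le_layerIn

theorem layerIn_eq_bot_of_solvable (h : Group.IsSolvable H) : layerIn H = ⊥ :=
  layerIn_eq_bot_iff_layer.mpr (layer_eq_bot_of_solvable h)

theorem layerIn_le_layerIn_of_subnIn (h : SubnIn H V) : layerIn H ≤ layerIn V :=
  layerIn_le_iff.mpr fun _ hK => (hK.trans h).le_layerIn

/-- If `E(V) ≤ H ≤ V` then `E(V) ≤ E(H)`. -/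
theorem layerIn_le_layerIn_of_le (h1 : layerIn V ≤ H) (h2 : H ≤ V) : layerIn V ≤ layerIn H :=
  layerIn_le_iff.mpr fun _ hK => (hK.of_le (hK.le_layerIn.trans h1) h2).le_layerIn

theorem layerIn_layerIn (H : Subgroup G) : layerIn (layerIn H) = layerIn H :=
  le_antisymm (layerIn_le _) (layerIn_le_layerIn_of_le le_rfl (layerIn_le H))

theorem CompIn.mem_of_le_sSup {L : Subgroup G} (hL : CompIn L H) {S : Set (Subgroup G)}
    (hS : ∀ K ∈ S, CompIn K H) (hle : L ≤ sSup S) : L ∈ S := by
  by_contra h
  have : ⁅L, sSup S⁆ = ⊥ := le_bot_iff.mp (commutator_sSup_right_le fun K hK =>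
    (hL.commute (hS K hK) fun e => h (e ▸ hK)).le)
  exact quasisimple_commutator_ne_bot hL.2 (commutator_eq_bot_mono this le_rfl hle)

theorem CompIn.layerIn_eq_sup_centralizer {L : Subgroup G} (hL : CompIn L H) :
    layerIn H = L ⊔ (layerIn H ⊓ centralizer (L : Set G)) := by
  refine le_antisymm (layerIn_le_iff.mpr fun K hK => ?_) (sup_le hL.le_layerIn inf_le_left)
  rcases hK.eq_or_commute hL with rfl | h
  · exact le_sup_left
  · exact le_sup_of_le_right (le_inf hK.le_layerIn (commutator_eq_bot_iff_le_centralizer.mp h))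

theorem CompIn.fstarIn_eq_sup_centralizer {L : Subgroup G} (hL : CompIn L H) :
    fstarIn H = L ⊔ (fstarIn H ⊓ centralizer (L : Set G)) := by
  refine le_antisymm ?_ (sup_le hL.le_fstarIn inf_le_left)
  conv_lhs => rw [fstarIn_eq, hL.layerIn_eq_sup_centralizer]
  refine sup_le (sup_le_sup_left (inf_le_inf_right _ (layerIn_le_fstarIn H)) L)
    (le_sup_of_le_right (le_inf (fittingOf_le_fstarIn H) ?_))
  rw [← commutator_eq_bot_iff_le_centralizer, commutator_comm]
  exact hL.commute_fittingOf

theorem map_subtype_centralizer (K : Subgroup H) :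
    (centralizer (K : Set H)).map H.subtype =
      H ⊓ centralizer ((K.map H.subtype : Subgroup G) : Set G) := by
  ext x
  constructor
  · rintro ⟨y, hy, rfl⟩
    refine ⟨y.2, ?_⟩
    rintro _ ⟨z, hz, rfl⟩
    exact congrArg Subtype.val (hy z hz)
  · rintro ⟨hx, hc⟩
    exact ⟨⟨x, hx⟩, fun z hz => Subtype.ext (hc z ⟨z, hz, rfl⟩), rfl⟩

theorem fstarIn_inf_centralizer_layerIn (H : Subgroup G) :
    fstarIn H ⊓ centralizer (layerIn H : Set G) = fittingOf H := by
  have := congrArg (Subgroup.map H.subtype) (genFitting_inf_centralizer_layer (G := H))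
  rw [map_inf _ _ _ H.subtype_injective, map_subtype_centralizer, ← inf_assoc,
    inf_eq_left.mpr (map_subtype_le _)] at this
  exact this

theorem CompIn.center_le_fittingOf {L : Subgroup G} (hL : CompIn L H) :
    L ⊓ centralizer (L : Set G) ≤ fittingOf H := by
  have := map_mono (f := H.subtype) (component_center_le_fitting hL.isComponent)
  rw [map_inf _ _ _ H.subtype_injective, map_subtype_centralizer, map_subgroupOf_eq_of_le hL.le,
    ← inf_assoc, inf_eq_left.mpr hL.le] at this
  exact this

section finite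

variable [Finite G]

/-- `C_H(F*(H)) ≤ F*(H)`. -/
theorem inf_centralizer_fstarIn_le (H : Subgroup G) :
    H ⊓ centralizer (fstarIn H : Set G) ≤ fstarIn H := by
  have := map_mono (f := H.subtype) (centralizer_genFitting_le (G := H))
  rwa [map_subtype_centralizer] at this

theorem inf_centralizer_fstarIn_le_fittingOf (H : Subgroup G) :
    H ⊓ centralizer (fstarIn H : Set G) ≤ fittingOf H := by
  have := map_mono (f := H.subtype) (centralizer_genFitting_le_fitting (G := H))
  rwa [map_subtype_centralizer] at this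

theorem fstarIn_eq_bot_iff : fstarIn H = ⊥ ↔ H = ⊥ := by
  constructor
  · intro h
    have := inf_centralizer_fstarIn_le H
    rw [h, le_bot_iff] at this
    rw [← this]
    exact (inf_eq_left.mpr fun x _ y hy => by rw [mem_bot.mp hy]; simp).symm
  · rintro rfl
    exact le_bot_iff.mp (fstarIn_le _)

theorem fittingOf_eq_inf_of_subnIn (h : SubnIn H V) : fittingOf H = fittingOf V ⊓ H := by
  obtain ⟨hle, hs⟩ := SubnIn.iff_subgroupOf.mp h
  have := congrArg (Subgroup.map V.subtype) (map_fitting_of_subnormal hs)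
  rw [map_inf _ _ _ V.subtype_injective, map_subgroupOf_eq_of_le hle] at this
  rw [← show _ = fittingOf V ⊓ H from this]
  have h2 := map_fittingOf_of_injective V.subtype_injective (H.subgroupOf V)
  rw [map_subgroupOf_eq_of_le hle] at h2
  exact h2.symm

theorem fstarIn_eq_inf_of_subnIn (h : SubnIn H V) : fstarIn H = fstarIn V ⊓ H := by
  obtain ⟨hle, hs⟩ := SubnIn.iff_subgroupOf.mp h
  have := congrArg (Subgroup.map V.subtype) (map_genFitting_of_subnormal hs)
  rw [map_inf _ _ _ V.subtype_injective, map_subgroupOf_eq_of_le hle] at this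
  rw [← show _ = fstarIn V ⊓ H from this]
  have h2 := map_fstarIn_of_injective V.subtype_injective (H.subgroupOf V)
  rw [map_subgroupOf_eq_of_le hle] at h2
  exact h2.symm

theorem fittingOf_le_fittingOf_of_subnIn (h : SubnIn H V) : fittingOf H ≤ fittingOf V := by
  rw [fittingOf_eq_inf_of_subnIn h]; exact inf_le_left

theorem fstarIn_le_fstarIn_of_subnIn (h : SubnIn H V) : fstarIn H ≤ fstarIn V := by
  rw [fstarIn_eq_inf_of_subnIn h]; exact inf_le_left

theorem le_fittingOf_of_subnIn (h : SubnIn H V) (hn : Group.IsNilpotent H) : H ≤ fittingOf V :=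
  (fittingOf_eq_self_iff.mpr hn).ge.trans (fittingOf_le_fittingOf_of_subnIn h)

theorem fstarIn_eq_self_of_subnIn (h : SubnIn H V) (hle : H ≤ fstarIn V) : fstarIn H = H := by
  rw [fstarIn_eq_inf_of_subnIn h, inf_eq_right.mpr hle]

theorem fstarIn_fstarIn (H : Subgroup G) : fstarIn (fstarIn H) = fstarIn H :=
  fstarIn_eq_self_of_subnIn (normIn_fstarIn H).subnIn le_rfl

theorem fittingOf_fstarIn (H : Subgroup G) : fittingOf (fstarIn H) = fittingOf H := by
  rw [fittingOf_eq_inf_of_subnIn (normIn_fstarIn H).subnIn, inf_eq_left.mpr (fittingOf_le_fstarIn H)]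

omit [Finite G] in
theorem layerIn_fstarIn (H : Subgroup G) : layerIn (fstarIn H) = layerIn H :=
  le_antisymm (layerIn_le_layerIn_of_subnIn (normIn_fstarIn H).subnIn)
    (layerIn_le_layerIn_of_le (layerIn_le_fstarIn H) (fstarIn_le H))

/-- If `F*(V) ≤ H ≤ V` then `F*(V) ≤ F*(H)`. -/
theorem fstarIn_le_fstarIn_of_le (h1 : fstarIn V ≤ H) (h2 : H ≤ V) : fstarIn V ≤ fstarIn H := by
  rw [fstarIn_eq V]
  refine sup_le ((layerIn_le_layerIn_of_le ((layerIn_le_fstarIn V).trans h1) h2).trans
    (layerIn_le_fstarIn H)) ?_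
  exact (le_fittingOf ((fittingOf_le_fstarIn V).trans h1) (h2.trans (le_normalizer_fittingOf V))
    (fittingOf_isNilpotent V)).trans (fittingOf_le_fstarIn H)

end finite

end layerIn

end CL.Sig
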