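import Cfsg.Agent.Sig.CompIn
import Cfsg.Agent.PComp.Layer
import Cfsg.Agent.S1314

/-!
# Pump-ups and the B-property

If `t` is an involution of `H` and `K ≤ E(H)` is a component of `C_H(t)`, then `K` lies in a
`t`-invariant component of `H` or is the diagonal of `D D^t` for a component `D ≠ D^t`.
-/

set_option autoImplicit false

namespace CL.Sig

open Cfsg Subgroup
open scoped commutatorElement Pointwise

variable {G : Type*} [Group G]

theorem commutator_sup_le_centralizer {Q K D : Subgroup G} (hQ : Q ≤ normalizer (D : Set G))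
    (hK : K ≤ normalizer (D : Set G)) (h : ⁅Q, K⁆ ≤ centralizer (D : Set G)) :
    ⁅Q ⊔ centralizer (D : Set G), K⁆ ≤ centralizer (D : Set G) :=
  commutator_sup_left_le_of_normalizer (hQ.trans (normalizer_le_normalizer_centralizer' D))
    le_normalizer h (le_normalizer_iff_commutator_le_left.1
      (hK.trans (normalizer_le_normalizer_centralizer' D)))

/-- A perfect subgroup `K ≤ D C(D)` commuting with `T ≤ N(D)` and with `C_D(T)` commutes
with `D`. -/
theorem le_centralizer_of_commute_fixed {K D T : Subgroup G} (hK : ⁅K, K⁆ = K)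
    (hKD : K ≤ D ⊔ centralizer (D : Set G)) (hT : T ≤ normalizer (D : Set G))
    (hKT : ⁅K, T⁆ = ⊥) (h : ⁅D ⊓ centralizer (T : Set G), K⁆ = ⊥) :
    K ≤ centralizer (D : Set G) := by
  have hN : D ⊔ centralizer (D : Set G) ≤ normalizer (D : Set G) :=
    sup_le le_normalizer (centralizer_le_normalizer _)
  have hKN := hKD.trans hN
  let P := D ⊓ (K ⊔ centralizer (D : Set G))
  have hKP : K ≤ P ⊔ centralizer (D : Set G) := by
    intro k hk
    obtain ⟨d, hd, c, hc, rfl⟩ := (mem_sup_of_le_normalizer_left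
      (centralizer_le_normalizer _)).1 (hKD hk)
    refine mul_mem (mem_sup_left ⟨hd, ?_⟩) (mem_sup_right hc)
    exact (mul_mem_cancel_right (mem_sup_right hc)).1 (mem_sup_left hk)
  have hPT : ⁅P, T⁆ ≤ centralizer (D : Set G) :=
    (commutator_mono inf_le_right le_rfl).trans
      (commutator_sup_le_centralizer hKN hT (hKT.le.trans bot_le))
  have h1 : ⁅⁅P, T⁆, P⁆ = ⊥ := commutator_eq_bot_iff_le_centralizer.2
    (hPT.trans (centralizer_le (SetLike.coe_subset_coe.2 inf_le_left)))
  have h2 : ⁅⁅P, P⁆, T⁆ = ⊥ :=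
    commutator_commutator_eq_bot_of_rotate h1 (by rwa [commutator_comm T P])
  have hPP : ⁅P, P⁆ ≤ D := (commutator_le_self P).trans inf_le_left
  have h3 : ⁅⁅P, P⁆, K⁆ = ⊥ := commutator_eq_bot_mono h
    (le_inf hPP (commutator_eq_bot_iff_le_centralizer.1 h2)) le_rfl
  have hPN : P ≤ normalizer (D : Set G) := inf_le_left.trans le_normalizer
  have hn : ∀ X : Subgroup G, X ≤ normalizer (P : Set G) → X ≤ normalizer (D : Set G) →
      X ≤ normalizer ((⁅P, P⁆ ⊔ centralizer (D : Set G) : Subgroup G) : Set G) :=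
    fun X h1 h2 => le_normalizer_sup (le_normalizer_commutator h1 h1)
      (h2.trans (normalizer_le_normalizer_centralizer' D))
  have hCP : centralizer (D : Set G) ≤ normalizer (P : Set G) :=
    (centralizer_le (SetLike.coe_subset_coe.2 inf_le_left)).trans (centralizer_le_normalizer _)
  have h4 : K ≤ ⁅P, P⁆ ⊔ centralizer (D : Set G) := by
    refine hK.ge.trans ((commutator_mono hKP hKP).trans ?_)
    refine commutator_sup_left_le_of_normalizer (hn P le_normalizer hPN)
      (hn _ hCP (centralizer_le_normalizer _)) ?_ ?_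
    · rw [commutator_comm]
      refine commutator_sup_left_le_of_normalizer (hn P le_normalizer hPN)
        (hn _ hCP (centralizer_le_normalizer _)) le_sup_left (le_trans ?_ le_sup_right)
      exact le_normalizer_iff_commutator_le_left.1
        (hPN.trans (normalizer_le_normalizer_centralizer' D))
    · refine le_trans ?_ le_sup_right
      exact le_normalizer_iff_commutator_le_left.1 (sup_le
        (hPN.trans (normalizer_le_normalizer_centralizer' D)) le_normalizer)
  exact hK.ge.trans ((commutator_mono h4 le_rfl).trans (commutator_sup_le_centralizer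
    (hPP.trans le_normalizer) hKN (h3.le.trans bot_le)))

theorem centralizer_zpowers' (t : G) : centralizer (zpowers t : Set G) = centralizer {t} := by
  refine le_antisymm (centralizer_le (Set.singleton_subset_iff.2 (mem_zpowers t))) ?_
  rw [← le_centralizer_iff, zpowers_le]
  exact fun g hg => mem_centralizer_singleton_iff.1 hg

/-- An element normalizing `D`, commuting with `t` and with the diagonal of `D D^t`, where
`D` is perfect and commutes with `D^t`, centralizes `D`. -/
theorem le_centralizer_of_commute_diag {D X : Subgroup G} {t : G} (hD : ⁅D, D⁆ = D)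
    (hc : ⁅D, MulAut.conj t • D⁆ = ⊥) (hXD : X ≤ normalizer (D : Set G))
    (hXt : X ≤ centralizer {t})
    (h : ∀ x ∈ X, ∀ d ∈ D, x * (d * (t * d * t⁻¹)) = d * (t * d * t⁻¹) * x) :
    X ≤ centralizer (D : Set G) := by
  rw [← commutator_eq_bot_iff_le_centralizer]
  refine commutator_eq_bot_of_perfect hD ?_
  rw [commutator_eq_bot_iff_le_centralizer, commutator_comm, commutator_le]
  intro d hd x hx
  have h1 := h x hx d⁻¹ (inv_mem hd)
  have h2 : x * t = t * x := mem_centralizer_singleton_iff.1 (hXt hx)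
  have h5 : x⁻¹ * t⁻¹ = t⁻¹ * x⁻¹ := by rw [← mul_inv_rev, ← mul_inv_rev, h2]
  have h6 : x * d⁻¹ * x⁻¹ * (t * (x * d⁻¹ * x⁻¹) * t⁻¹) = d⁻¹ * (t * d⁻¹ * t⁻¹) := by
    calc _ = x * d⁻¹ * (x⁻¹ * (t * x)) * d⁻¹ * (x⁻¹ * t⁻¹) := by group
      _ = x * (d⁻¹ * (t * d⁻¹ * t⁻¹)) * x⁻¹ := by rw [← h2, h5]; group
      _ = _ := by rw [h1]; group
  have h4 : ⁅d, x⁆ = t * (d⁻¹ * (x * d * x⁻¹)) * t⁻¹ := by
    calc ⁅d, x⁆ = d * (x * d⁻¹ * x⁻¹ * (t * (x * d⁻¹ * x⁻¹) * t⁻¹)) *
          (t * (x * d * x⁻¹) * t⁻¹) := by rw [commutatorElement_def]; group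
      _ = _ := by rw [h6]; group
  rw [h4]
  rw [commutator_comm, commutator_eq_bot_iff_le_centralizer] at hc
  exact hc (smul_mem_pointwise_smul _ (MulAut.conj t) _
    (mul_mem (inv_mem hd) (le_normalizer_iff.1 hXD x hx _ hd)))

variable [Finite G]

/-- The diagonal of `D D^t` is a component of `C_H(t)`. -/
theorem CompIn.exists_diag {H D : Subgroup G} {t : G} (ht : orderOf t = 2) (htH : t ∈ H)
    (hD : CompIn D H) (hc : ⁅D, MulAut.conj t • D⁆ = ⊥) :
    ∃ π : D →* G, (∀ d : D, π d = d * (t * d * t⁻¹)) ∧ CompIn π.range (H ⊓ centralizer {t}) ∧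
      ⁅(D ⊔ MulAut.conj t • D) ⊓ centralizer {t}, (D ⊔ MulAut.conj t • D) ⊓ centralizer {t}⁆ =
        π.range := by
  obtain ⟨π, h1, h2, -, h4⟩ := Cfsg.Agent.S1314.result t ht D hD.commutator_self hc
  refine ⟨π, h1, ⟨?_, ?_⟩, h4⟩
  · have hD' := hD.conj_of_mem htH
    have h5 : SubnIn (D ⊔ MulAut.conj t • D) H :=
      SubnIn.head ⟨sup_le hD.le_layerIn hD'.le_layerIn,
        le_normalizer_sup hD.layerIn_le_normalizer hD'.layerIn_le_normalizer⟩
        (normIn_layerIn H).subnIn
    refine SubnIn.head ?_ (h5.inf_right _)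
    rw [← h4]
    exact ⟨commutator_le_self _, le_normalizer_commutator le_normalizer le_normalizer⟩
  · rw [MonoidHom.range_eq_map]
    refine quasisimple_map (isQuasisimple_top_iff.2 hD.2) π fun h => ?_
    rw [Subgroup.map_eq_bot_iff] at h
    exact quasisimple_center_ne_top hD.2 (eq_top_iff.2 (h.trans h2))

/-- **Pump-up**. -/
theorem CompIn.pumpup {H K : Subgroup G} {t : G} (ht : orderOf t = 2) (htH : t ∈ H)
    (hK : CompIn K (H ⊓ centralizer {t})) (hKE : K ≤ layerIn H) :
    ∃ D, CompIn D H ∧ ((K ≤ D ∧ t ∈ normalizer (D : Set G)) ∨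
      (⁅D, MulAut.conj t • D⁆ = ⊥ ∧ ∃ π : D →* G, (∀ d : D, π d = d * (t * d * t⁻¹)) ∧
        π.range = K ∧ ⁅(D ⊔ MulAut.conj t • D) ⊓ centralizer {t},
          (D ⊔ MulAut.conj t • D) ⊓ centralizer {t}⁆ = K)) := by
  obtain ⟨D, hD, hne⟩ : ∃ D, CompIn D H ∧ ⁅D, K⁆ ≠ ⊥ := by
    by_contra hcon
    push Not at hcon
    exact quasisimple_commutator_ne_bot hK.2
      (commutator_eq_bot_mono (layerIn_commute_of_forall hcon) hKE le_rfl)
  have hne' : ¬ K ≤ centralizer (D : Set G) := by
    rwa [← commutator_eq_bot_iff_le_centralizer, commutator_comm]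
  have hKt : K ≤ centralizer {t} := hK.le.trans inf_le_right
  refine ⟨D, hD, ?_⟩
  rcases hD.eq_or_commute (hD.conj_of_mem htH) with h | h
  · have htD : t ∈ normalizer (D : Set G) := Cj.mem_normalizer_iff_conj_eq.2 h.symm
    refine Or.inl ⟨?_, htD⟩
    rcases hK.le_or_commute (hD.1.inf_right (centralizer {t})) with h1 | h1
    · exact h1.trans inf_le_left
    · refine absurd (le_centralizer_of_commute_fixed (T := zpowers t) hK.commutator_self
        (hKE.trans (hD.layerIn_eq_sup_centralizer.le.trans (sup_le_sup_left inf_le_right _)))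
        (zpowers_le.2 htD) ?_ ?_) hne'
      · rwa [commutator_eq_bot_iff_le_centralizer, centralizer_zpowers']
      · rwa [centralizer_zpowers', commutator_comm]
  · obtain ⟨π, h1, h2, h3⟩ := hD.exists_diag ht htH h
    have : π.range = K := by
      refine (h2.eq_or_commute hK).resolve_right fun h4 => hne' ?_
      refine le_centralizer_of_commute_diag hD.commutator_self h
        (hKE.trans hD.layerIn_le_normalizer) hKt fun x hx d hd => ?_
      rw [← h1 ⟨d, hd⟩]
      exact (commute_of_commutator_eq_bot h4 ⟨_, rfl⟩ hx).symm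
    exact Or.inr ⟨h, π, h1, this, h3.trans this⟩

/-- With the B-property and `O(G) = 1`, the 2-components of involution centralizers are
components. -/
theorem compIn_of_hasBProperty (hO : oddCore G = ⊥) (hB : HasBProperty G) {t : G}
    (ht : orderOf t = 2) {K : Subgroup G} (hK : PComp.PCompIn 2 K (centralizer {t})) :
    CompIn K (centralizer {t}) := by
  have : Fact (Nat.Prime 2) := ⟨Nat.prime_two⟩
  refine ⟨SubnIn.iff_subgroupOf.2 ⟨hK.le, hK.isSubnormal⟩, hK.pQuasi.quasisimple_iff.2 ?_⟩
  have h := hB t ht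
  rw [hO, le_bot_iff, map_commutator] at h
  exact commutator_eq_bot_mono h hK.le_pLayerIn
    (PComp.ppCore_le_ppCore_of_isSubnormal hK.le hK.isSubnormal)

theorem pLayerIn_le_layerIn_of_hasBProperty (hO : oddCore G = ⊥) (hB : HasBProperty G) {t : G}
    (ht : orderOf t = 2) : PComp.pLayerIn 2 (centralizer {t}) ≤ layerIn (centralizer {t}) :=
  PComp.pLayerIn_le_iff.2 fun _ hK => (compIn_of_hasBProperty hO hB ht hK).le_layerIn

end CL.Sig
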