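import Cfsg.Agent.Base
import Cfsg.Agent.Sig.CompIn
import Cfsg.Agent.PComp.Core
import Cfsg.Agent.Invol.StrEmb

/-!
# Terminal components and standard subgroups: elementary facts
-/

set_option autoImplicit false

namespace CL.Sig

open Cfsg Subgroup
open scoped commutatorElement IsMulCommutative Pointwise

variable {G : Type*} [Group G]

theorem conj_centralizer_singleton (g x : G) :
    MulAut.conj g • centralizer ({x} : Set G) = centralizer ({g * x * g⁻¹} : Set G) := by
  ext y
  rw [Cj.mem_conj_iff, mem_centralizer_singleton_iff, mem_centralizer_singleton_iff]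
  constructor
  · intro h
    calc y * (g * x * g⁻¹) = g * (g⁻¹ * y * g * x) * g⁻¹ := by group
      _ = g * (x * (g⁻¹ * y * g)) * g⁻¹ := by rw [h]
      _ = g * x * g⁻¹ * y := by group
  · intro h
    calc g⁻¹ * y * g * x = g⁻¹ * (y * (g * x * g⁻¹)) * g := by group
      _ = g⁻¹ * (g * x * g⁻¹ * y) * g := by rw [h]
      _ = x * (g⁻¹ * y * g) := by group

theorem le_centralizer_singleton_iff {L : Subgroup G} {x : G} :
    L ≤ centralizer ({x} : Set G) ↔ x ∈ centralizer (L : Set G) :=
  ⟨fun h y hy => mem_centralizer_singleton_iff.mp (h hy),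
    fun h y hy => mem_centralizer_singleton_iff.mpr (h y hy)⟩

theorem orderOf_conj' (g x : G) : orderOf (g * x * g⁻¹) = orderOf x :=
  (MulAut.conj g).orderOf_eq x

/-- If `L` is a component of `C(y)` for every involution `y` of `C(L)`, then two conjugates of `L`
centralized by a common involution are equal or commute. -/
theorem terminal_conj_eq_or_commute {L : Subgroup G}
    (hne : ∀ y : G, orderOf y = 2 → y ∈ centralizer (L : Set G) → CompIn L (centralizer {y}))
    {g y : G} (hy : orderOf y = 2) (h1 : y ∈ centralizer (L : Set G))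
    (h2 : y ∈ MulAut.conj g • centralizer (L : Set G)) :
    MulAut.conj g • L = L ∨ ⁅L, MulAut.conj g • L⁆ = ⊥ := by
  have h3 := (hne (g⁻¹ * y * g) (by rw [← hy, ← orderOf_conj' g⁻¹ y, inv_inv])
    (Cj.mem_conj_iff.mp h2)).conj g
  rw [conj_centralizer_singleton, show g * (g⁻¹ * y * g) * g⁻¹ = y by group] at h3
  rcases (hne y hy h1).eq_or_commute h3 with h | h
  · exact Or.inl h.symm
  · exact Or.inr h

/-- A terminal component commuting with none of its other conjugates is standard. -/
theorem isStandard_of_terminal [Finite G] {L : Subgroup G} {x : G} (hx : orderOf x = 2)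
    (hLx : x ∈ centralizer (L : Set G))
    (hne : ∀ y : G, orderOf y = 2 → y ∈ centralizer (L : Set G) → CompIn L (centralizer {y}))
    (hnc : ∀ g : G, MulAut.conj g • L ≠ L → ⁅L, MulAut.conj g • L⁆ ≠ ⊥) :
    IsStandardSubgroup L := by
  have key : ∀ g y : G, orderOf y = 2 → y ∈ centralizer (L : Set G) →
      y ∈ MulAut.conj g • centralizer (L : Set G) → g ∈ normalizer (L : Set G) := by
    intro g y hy h1 h2
    rw [Cj.mem_normalizer_iff_conj_eq]
    by_contra h
    exact hnc g h ((terminal_conj_eq_or_commute hne hy h1 h2).resolve_left h)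
  refine ⟨(hne x hx hLx).2, ⟨?_, fun g hg => ?_⟩, hnc, ?_⟩
  · exact (Invol.even_card_iff_exists_involution _).mpr ⟨x, hLx, hx⟩
  · refine (Invol.odd_card_iff_forall _).mpr fun y hy hy2 => hg ?_
    exact normalizer_le_normalizer_centralizer' L (key g y hy2 hy.1 hy.2)
  · refine le_antisymm (normalizer_le_normalizer_centralizer' L) fun g hg => key g x hx hLx ?_
    rw [Cj.conj_eq_of_mem_normalizer hg]
    exact hLx

/-- A tightly embedded subgroup is normalized by the centralizers of its involutions. -/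
theorem tightlyEmbedded_centralizer_le [Finite G] {K : Subgroup G} (hK : IsTightlyEmbedded K)
    {t : G} (ht : orderOf t = 2) (htK : t ∈ K) :
    centralizer ({t} : Set G) ≤ normalizer (K : Set G) := by
  intro g hg
  by_contra h
  refine (Invol.odd_card_iff_forall _).mp (hK.2 g h) t ⟨htK, t, htK, ?_⟩ ht
  have := mem_centralizer_singleton_iff.mp hg
  simp [this]

theorem standard_centralizer_le [Finite G] {A : Subgroup G} (hA : IsStandardSubgroup A)
    {t : G} (ht : orderOf t = 2) (htA : t ∈ centralizer (A : Set G)) :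
    centralizer ({t} : Set G) ≤ normalizer (A : Set G) :=
  hA.2.2.2 ▸ tightlyEmbedded_centralizer_le hA.2.1 ht htA

theorem standard_compIn [Finite G] {A : Subgroup G} (hA : IsStandardSubgroup A)
    {t : G} (ht : orderOf t = 2) (htA : t ∈ centralizer (A : Set G)) :
    CompIn A (centralizer {t}) :=
  compIn_of_normIn hA.1 ⟨le_centralizer_singleton_iff.mpr htA, standard_centralizer_le hA ht htA⟩

/-- If `O_{p'}(G) = 1` then `p`-components are components. -/
theorem isPComponent_iff_of_core_eq_bot {p : ℕ} (h : pPrimeCore p G = ⊥) {K : Subgroup G} :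
    IsPComponent p K ↔ IsComponent K := by
  have hinj : Function.Injective (QuotientGroup.mk' (pPrimeCore p G)) := by
    rw [← MonoidHom.ker_eq_bot_iff, QuotientGroup.ker_mk', h]
  constructor
  · rintro ⟨h1, h2, -⟩
    exact ⟨h1, (isQuasisimple_map_iff_of_injective _ hinj).mp h2.2⟩
  · intro hK
    refine ⟨hK.1, ⟨hK.1.quotient, (isQuasisimple_map_iff_of_injective _ hinj).mpr hK.2⟩,
      fun H _ _ he => map_injective hinj he⟩

theorem pLayer_eq_layer_of_core_eq_bot {p : ℕ} (h : pPrimeCore p G = ⊥) : pLayer p G = layer G := by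
  unfold pLayer layer
  congr 1
  ext K
  exact isPComponent_iff_of_core_eq_bot h

/-- If `O_{p'}(G) = 1` then every component has order divisible by `p`. -/
theorem dvd_card_component_of_core_eq_bot [Finite G] {p : ℕ} [hp : Fact p.Prime]
    (h : pPrimeCore p G = ⊥) {K : Subgroup G} (hK : IsComponent K) : p ∣ Nat.card K := by
  by_contra hd
  have := PComp.le_pPrimeCore_of_isSubnormal (p := p) hK.1
    ((Nat.Prime.coprime_iff_not_dvd hp.out).mpr hd).symm
  rw [h, le_bot_iff] at this
  exact component_ne_bot hK this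

/-- A quasisimple subgroup with trivial centre is non-abelian simple. -/
theorem isSimpleGroup_of_quasisimple {K : Subgroup G} (hK : IsQuasisimple K)
    (hZ : K ⊓ centralizer (K : Set G) = ⊥) : IsSimpleGroup K ∧ ¬ IsMulCommutative K := by
  have hc : center K = ⊥ := by
    rw [← Subgroup.map_eq_bot_iff_of_injective _ K.subtype_injective, map_center_subtype, hZ]
  have := quasisimple_nontrivial hK
  have := hK.1
  refine ⟨⟨fun N hN => ?_⟩, Group.IsPerfect.not_isMulCommutative _⟩
  rcases quasisimple_normal hK N with h | h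
  · exact Or.inr h
  · exact Or.inl (le_bot_iff.mp (hc ▸ h))

/-- The diagonal map `d ↦ d · t d t⁻¹` when `D` commutes with its conjugate. -/
def diagHom (D : Subgroup G) (t : G) (h : ⁅D, MulAut.conj t • D⁆ = ⊥) : D →* G where
  toFun d := (d : G) * (t * d * t⁻¹)
  map_one' := by simp
  map_mul' a b := by
    have := commute_of_commutator_eq_bot h b.2 (Cj.conj_mem_conj t a.2)
    simp only [coe_mul]
    calc (a : G) * b * (t * (a * b) * t⁻¹) = a * (b * (t * a * t⁻¹)) * (t * b * t⁻¹) := by group
      _ = a * (t * a * t⁻¹ * b) * (t * b * t⁻¹) := by rw [this]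
      _ = _ := by group

theorem diagHom_apply (D : Subgroup G) (t : G) (h : ⁅D, MulAut.conj t • D⁆ = ⊥) (d : D) :
    diagHom D t h d = (d : G) * (t * d * t⁻¹) := rfl

theorem diagHom_injective {D : Subgroup G} {t : G} (h : ⁅D, MulAut.conj t • D⁆ = ⊥)
    (hd : D ⊓ MulAut.conj t • D = ⊥) : Function.Injective (diagHom D t h) := by
  rw [injective_iff_map_eq_one]
  intro d h1
  rw [diagHom_apply, mul_eq_one_iff_eq_inv] at h1
  have : (d : G) ∈ D ⊓ MulAut.conj t • D :=
    mem_inf.mpr ⟨d.2, by rw [h1]; exact inv_mem (Cj.conj_mem_conj t d.2)⟩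
  rw [hd, mem_bot] at this
  exact Subtype.ext this

theorem diagHom_range {D : Subgroup G} {t : G} (ht : t * t = 1) (h : ⁅D, MulAut.conj t • D⁆ = ⊥)
    (hd : D ⊓ MulAut.conj t • D = ⊥) :
    (diagHom D t h).range = (D ⊔ MulAut.conj t • D) ⊓ centralizer ({t} : Set G) := by
  have hti : t⁻¹ = t := inv_eq_of_mul_eq_one_right ht
  have htt : ∀ x : G, t * (t * x * t⁻¹) * t⁻¹ = x := fun x => by
    rw [hti]
    calc t * (t * x * t) * t = (t * t) * x * (t * t) := by group
      _ = x := by rw [ht]; simp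
  ext x
  constructor
  · rintro ⟨d, rfl⟩
    refine mem_inf.mpr ⟨mul_mem (mem_sup_left d.2) (mem_sup_right (Cj.conj_mem_conj t d.2)), ?_⟩
    rw [mem_centralizer_singleton_iff, diagHom_apply]
    have h1 := commute_of_commutator_eq_bot h d.2 (Cj.conj_mem_conj t d.2)
    calc (d : G) * (t * d * t⁻¹) * t = t * (t * d * t⁻¹) * t⁻¹ * (t * d) := by rw [htt]; group
      _ = t * (t * d * t⁻¹ * d) := by group
      _ = t * (d * (t * d * t⁻¹)) := by rw [h1]
  · intro hx
    obtain ⟨hx, hc⟩ := mem_inf.mp hx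
    obtain ⟨a, ha, b, hb, rfl⟩ := (mem_sup_of_commutator_eq_bot h).mp hx
    obtain ⟨c, hc', rfl⟩ := Cj.exists_of_mem_conj hb
    rw [mem_centralizer_singleton_iff] at hc
    have h1 : t * a * t⁻¹ * c = a * (t * c * t⁻¹) := by
      calc t * a * t⁻¹ * c = t * a * t⁻¹ * (t * (t * c * t⁻¹) * t⁻¹) := by rw [htt]
        _ = t * (a * (t * c * t⁻¹)) * t⁻¹ := by group
        _ = a * (t * c * t⁻¹) := by rw [← hc]; group
    have h2 := commute_of_commutator_eq_bot h hc' (Cj.conj_mem_conj t ha)
    have h3 : a⁻¹ * c = t * (c * a⁻¹) * t⁻¹ := by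
      calc a⁻¹ * c = a⁻¹ * (c * (t * a * t⁻¹)) * (t * a⁻¹ * t⁻¹) := by group
        _ = a⁻¹ * (a * (t * c * t⁻¹)) * (t * a⁻¹ * t⁻¹) := by rw [h2, h1]
        _ = _ := by group
    have h4 : a⁻¹ * c ∈ D ⊓ MulAut.conj t • D :=
      mem_inf.mpr ⟨mul_mem (inv_mem ha) hc',
        by rw [h3]; exact Cj.conj_mem_conj t (mul_mem hc' (inv_mem ha))⟩
    rw [hd, mem_bot, inv_mul_eq_one] at h4
    exact ⟨⟨a, ha⟩, by rw [diagHom_apply, ← h4]⟩

end CL.Sig
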