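import Cfsg.Agent.Base
import Cfsg.Agent.SF.Cop
import Cfsg.Agent.BG.Core
import Cfsg.Agent.PLoc.Balance
import Cfsg.Agent.PLoc.OpE
import Cfsg.Agent.PComp.Layer

/-!
# Groups with trivial `p`-layer: balance and a criterion for membership in `O_{2',2}`
-/

set_option autoImplicit false
set_option linter.unusedSectionVars false

namespace CL.Sig

open Cfsg Subgroup CL.BG

variable {G : Type*} [Group G] [Finite G] {p : ℕ} [hp : Fact p.Prime]

theorem isCharP_quotient_of_layer (hL : layer (G ⧸ pPrimeCore p G) = ⊥) :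
    PLoc.IsCharP p (G ⧸ pPrimeCore p G) :=
  PLoc.isCharP_iff_pPrimeCore_layer.2 ⟨PComp.pPrimeCore_quotient_eq_bot, hL⟩

theorem centralizerPPrimeCore_le_of_layer (hL : layer (G ⧸ pPrimeCore p G) = ⊥) {x : G}
    (hx : orderOf x = p) : centralizerPPrimeCore p x ≤ pPrimeCore p G := by
  have hk := PComp.coprime_card_ker_mk' (PComp.coprime_card_pPrimeCore' (p := p) (G := G))
  have hx' : x ^ p ^ 1 = 1 := by rw [pow_one, ← hx]; exact pow_orderOf_eq_one x
  have h1 := PLoc.map_centralizerPPrimeCore_of_coprime_ker (QuotientGroup.mk'_surjective _) hk hx'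
  have h2 := (isCharP_quotient_of_layer hL).centralizer
    (PLoc.isPGroup_zpowers_of_orderOf (PLoc.orderOf_map_of_coprime_ker hk hx))
  rw [PLoc.centralizer_zpowers] at h2
  have h3 : centralizerPPrimeCore p (QuotientGroup.mk' (pPrimeCore p G) x) = ⊥ := by
    rw [centralizerPPrimeCore, (PLoc.isCharP_iff_pPrimeCore_layer.1 h2).1, Subgroup.map_bot]
  rw [h3, Subgroup.map_eq_bot_iff, QuotientGroup.ker_mk'] at h1
  exact h1

/-- Balance for an element whose centraliser has trivial `p`-layer. -/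
theorem core_balance_of_layer {a b : G} (ha : orderOf a = p) (hab : a * b = b * a)
    (hL : layer (↥𝐂₁(b) ⧸ pPrimeCore p ↥𝐂₁(b)) = ⊥) :
    centralizerPPrimeCore p a ⊓ 𝐂₁(b) ≤ centralizerPPrimeCore p b := by
  intro y hy
  have ha' : a ∈ 𝐂₁(b) := mem_cent1.2 hab
  have h1 : (⟨y, hy.2⟩ : 𝐂₁(b)) ∈ centralizerPPrimeCore p (⟨a, ha'⟩ : 𝐂₁(b)) :=
    PLoc.subgroupOf_centralizerPPrimeCore_le (p := p) (H := 𝐂₁(b)) ⟨a, ha'⟩ hy.1
  exact ⟨⟨y, hy.2⟩, centralizerPPrimeCore_le_of_layer hL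
    (by rw [← ha]; exact (orderOf_coe _).symm) h1, rfl⟩

theorem centralizerPPrimeCore_eq_piCoreOf (x : G) :
    centralizerPPrimeCore p x = piCoreOf {p}ᶜ 𝐂₁(x) :=
  (piCoreOf_compl_singleton hp.out _).symm

theorem cj_centralizerPPrimeCore (g x : G) :
    cj g (centralizerPPrimeCore p x) = centralizerPPrimeCore p (g * x * g⁻¹) :=
  PLoc.conj_smul_centralizerPPrimeCore g x

theorem not_dvd_card_centralizerPPrimeCore (x : G) : ¬ p ∣ Nat.card (centralizerPPrimeCore p x) :=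
  (Nat.Prime.coprime_iff_not_dvd hp.out).1 (PLoc.coprime_card_centralizerPPrimeCore x).symm

/-- In a group of characteristic `2`, an element centralising `O₂` modulo a central involution lies in
`O₂`. -/
theorem mem_pCore_of_commutator_mem (h : PLoc.IsCharP 2 G) {t u : G} (ht : t ∈ center G)
    (ht2 : t * t = 1) (hu : ∀ q ∈ pCore 2 G, u * q * u⁻¹ * q⁻¹ = 1 ∨ u * q * u⁻¹ * q⁻¹ = t) :
    u ∈ pCore 2 G := by
  have hc : ∀ g, g * t = t * g := mem_center_iff.1 ht
  have key : ∀ {c : G}, (c = 1 ∨ c = t) → ∀ g, g * c * g⁻¹ = c := by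
    rintro c (rfl | rfl) g
    · simp
    · rw [hc, mul_inv_cancel_right]
  have hmul : ∀ {c d : G}, (c = 1 ∨ c = t) → (d = 1 ∨ d = t) → (c * d = 1 ∨ c * d = t) := by
    rintro c d (rfl | rfl) (rfl | rfl) <;> simp [ht2]
  have hinv : ∀ {c : G}, (c = 1 ∨ c = t) → c⁻¹ = c := by
    rintro c (rfl | rfl)
    · simp
    · exact inv_eq_of_mul_eq_one_right ht2
  let N : Subgroup G :=
    { carrier := {x | ∀ q ∈ pCore 2 G, x * q * x⁻¹ * q⁻¹ = 1 ∨ x * q * x⁻¹ * q⁻¹ = t}
      one_mem' := fun q _ => Or.inl (by simp)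
      mul_mem' := by
        intro x y hx hy q hq
        have e : x * y * q * (x * y)⁻¹ * q⁻¹ =
            (x * (y * q * y⁻¹ * q⁻¹) * x⁻¹) * (x * q * x⁻¹ * q⁻¹) := by group
        rw [e, key (hy q hq)]
        exact hmul (hy q hq) (hx q hq)
      inv_mem' := by
        intro x hx q hq
        have e : x⁻¹ * q * x⁻¹⁻¹ * q⁻¹ = x⁻¹ * (x * q * x⁻¹ * q⁻¹)⁻¹ * x⁻¹⁻¹ := by group
        rw [e, hinv (hx q hq), key (hx q hq)]
        exact hx q hq }
  have hN : N.Normal := ⟨fun x hx g q hq => by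
    have hq' : g⁻¹ * q * g ∈ pCore 2 G := by
      simpa using (inferInstance : (pCore 2 G).Normal).conj_mem q hq g⁻¹
    have e : g * x * g⁻¹ * q * (g * x * g⁻¹)⁻¹ * q⁻¹ =
        g * (x * (g⁻¹ * q * g) * x⁻¹ * (g⁻¹ * q * g)⁻¹) * g⁻¹ := by group
    rw [e, key (hx _ hq')]
    exact hx _ hq'⟩
  have hP : IsPGroup 2 N := by
    rintro ⟨x, hx⟩
    have h2 : x * x ∈ pCore 2 G := h (mem_centralizer_iff.2 fun q hq => by
      have e : x * x * q * (x * x)⁻¹ * q⁻¹ =
          (x * (x * q * x⁻¹ * q⁻¹) * x⁻¹) * (x * q * x⁻¹ * q⁻¹) := by group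
      rw [key (hx q hq)] at e
      have e2 : (x * q * x⁻¹ * q⁻¹) * (x * q * x⁻¹ * q⁻¹) = 1 := by
        nth_rewrite 1 [← hinv (hx q hq)]
        exact inv_mul_cancel _
      rw [e2] at e
      calc q * (x * x) = (x * x * q * (x * x)⁻¹ * q⁻¹) * (q * (x * x)) := by rw [e, one_mul]
        _ = x * x * q := by group)
    obtain ⟨k, hk⟩ := PLoc.isPGroup_pCore (p := 2) (G := G) ⟨_, h2⟩
    refine ⟨k + 1, Subtype.ext ?_⟩
    have := congrArg Subtype.val hk
    simp only [SubmonoidClass.mk_pow, OneMemClass.coe_one] at this ⊢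
    rw [pow_succ', pow_mul, pow_two]
    exact this
  exact PLoc.le_pCore hN hP hu

/-- If `H` has trivial `2`-layer, an element centralising a Sylow `2`-subgroup modulo a central
involution lies in `O_{2',2}(H)`. -/
theorem mem_pPrimePCoreOf_of_commutator_mem {H T : Subgroup G}
    (hL : layer (↥H ⧸ pPrimeCore 2 ↥H) = ⊥) (hT : SylowOf 2 T H) {t u : G} (htH : t ∈ H)
    (ht : H ≤ 𝐂₁(t)) (ht2 : t * t = 1) (huH : u ∈ H)
    (hu : ∀ q ∈ T, u * q * u⁻¹ * q⁻¹ = 1 ∨ u * q * u⁻¹ * q⁻¹ = t) :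
    u ∈ pPrimePCoreOf 2 H := by
  refine ⟨⟨u, huH⟩, ?_, rfl⟩
  set f := QuotientGroup.mk' (pPrimeCore 2 ↥H) with hf
  have hs : Function.Surjective f := QuotientGroup.mk'_surjective _
  refine mem_pCore_of_commutator_mem (isCharP_quotient_of_layer hL) (t := f ⟨t, htH⟩) ?_ ?_ ?_
  · rw [mem_center_iff]
    intro g
    obtain ⟨g, rfl⟩ := hs g
    rw [← map_mul, ← map_mul]
    congr 1
    exact Subtype.ext (mem_cent1.1 (ht g.2))
  · rw [← map_mul, ← map_one f]
    congr 1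
    exact Subtype.ext ht2
  · intro q hq
    have h1 : SylowOf 2 ((T.subgroupOf H).map f) ⊤ := by
      have := (Hall.subgroupOf hT (le_refl H)).map f
      rwa [subgroupOf_self, map_top_of_surjective _ hs] at this
    obtain ⟨y, hy, rfl⟩ := h1.normal_le' PLoc.isPGroup_pCore (NormalIn.of_normal _) hq
    rcases hu y hy with e | e
    · left
      rw [← map_inv, ← map_inv, ← map_mul, ← map_mul, ← map_mul, ← map_one f]
      congr 1
      exact Subtype.ext e
    · right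
      rw [← map_inv, ← map_inv, ← map_mul, ← map_mul, ← map_mul]
      congr 1
      exact Subtype.ext e

/-- A `p'`-subgroup normalised by a subgroup of `O_{p',p}(H)` is centralised modulo `O_{p'}(H)`. -/
theorem commutator_le_core_of_le_pPrimePCoreOf {H X Z : Subgroup G} (hX : X ≤ H)
    (hXp : PiGrp {p}ᶜ X) (hZ : Z ≤ pPrimePCoreOf p H) (hZX : Z ≤ 𝐍(X)) :
    ⁅X, Z⁆ ≤ piCoreOf {p}ᶜ H := by
  have h1 : ⁅X, Z⁆ ≤ X := commutator_le_left_of_norm hZX
  have h2 : ⁅X, Z⁆ ≤ pPrimePCoreOf p H :=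
    (commutator_mono hX hZ).trans (pPrimePCoreOf_normalIn p H).commutator_le'
  exact (hall_piCoreOf_pPrimePCoreOf H).le_of_normal
    ((pPrimePCoreOf_le p H).trans (le_norm_piCoreOf _ H)) h2 (hXp.of_le h1)

end CL.Sig
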