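import Cfsg.Agent.Base
import Cfsg.Agent.BG.Rank
import Cfsg.Agent.SigMisc.Rank
import Cfsg.Agent.TwoFus.Three
import Cfsg.Agent.Invol.Index2
import Cfsg.Agent.Invol.StrEmb
import Cfsg.Agent.S1337
import Cfsg.Agent.S0112
import Cfsg.Agent.S0113

/-!
# Normal four-subgroups of `2`-groups of rank at least `3`
-/

set_option autoImplicit false
set_option linter.unusedSectionVars false

namespace CL.Sig

open Cfsg Subgroup CL.BG

variable {G : Type*} [Group G] {S T U V H : Subgroup G} {a b e s t u z : G}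

theorem sq_of_orderOf_two (h : orderOf t = 2) : t * t = 1 := by
  rw [← pow_two, ← h]; exact pow_orderOf_eq_one t

theorem ne_one_of_orderOf_two (h : orderOf t = 2) : t ≠ 1 := by
  rintro rfl; simp at h

theorem orderOf_two_of_sq (h : t * t = 1) (h1 : t ≠ 1) : orderOf t = 2 :=
  orderOf_eq_prime (by rwa [pow_two]) h1

theorem four_le (h : IsFourData V a b) (ha : a ∈ H) (hb : b ∈ H) : V ≤ H := fun g hg => by
  rcases (h.mem g).1 hg with rfl | rfl | rfl | rfl
  exacts [one_mem _, ha, hb, mul_mem ha hb]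

theorem four_elemN (h : IsFourData V a b) : ElemN 2 2 V V := by
  refine ⟨le_rfl, SigMisc.elemAb_mk (fun x hx y hy => ?_)
    (fun x hx => by rw [pow_two]; exact h.sq_eq_one hx), h.card_eq⟩
  have h1 := h.sq_eq_one hx
  have h2 := h.sq_eq_one hy
  have h3 := h.sq_eq_one (mul_mem hx hy)
  calc x * y = (x * y)⁻¹ := eq_inv_of_mul_eq_one_left h3
    _ = y⁻¹ * x⁻¹ := mul_inv_rev _ _
    _ = y * x := by rw [← eq_inv_of_mul_eq_one_left h1, ← eq_inv_of_mul_eq_one_left h2]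

theorem four_cj (h : IsFourData V a b) (g : G) :
    IsFourData (cj g V) (g * a * g⁻¹) (g * b * g⁻¹) :=
  h.map (MulAut.conj g).toMonoidHom (conj_injective g)

theorem four_swap (h : IsFourData V a b) : IsFourData V a (b * a) where
  a_sq := h.a_sq
  b_sq := by rw [← h.comm]; exact h.ab_sq
  comm := by rw [← mul_assoc, h.comm]
  a_ne := h.a_ne
  b_ne := by rw [← h.comm]; exact h.ab_ne_one
  ne := by rw [← h.comm]; exact h.ab_ne_a.symm
  mem g := by
    rw [h.mem, ← h.comm, ← mul_assoc, h.a_sq, one_mul]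
    tauto

variable [Finite G]

/-- In a group of `2`-rank at most `2`, an involution centralising a four-group lies in it. -/
theorem mem_four_of_rank (hr : PRankLE 2 2 H) (h : IsFourData V a b) (hV : V ≤ H) (he : e ∈ H)
    (he2 : e * e = 1) (ha : a * e = e * a) (hb : b * e = e * b) : e ∈ V := by
  by_contra hn
  have h3 := ((four_elemN h).of_le hV).sup_zpowers Nat.prime_two he hn
    (h.mem_centralizer_iff.2 ⟨ha, hb⟩) (by rwa [pow_two])
  have := h3.le_pRank Nat.prime_two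
  have := (pRank_le_iff Nat.prime_two).2 hr
  omega

/-- `V = ⟨z, u⟩` is a four-group normal in `S`, with `z` central in `S`. -/
structure NFour (S V : Subgroup G) (z u : G) : Prop where
  four : IsFourData V z u
  z_mem : z ∈ S
  u_mem : u ∈ S
  cent : S ≤ 𝐂₁(z)
  act : ∀ s ∈ S, s * u * s⁻¹ = u ∨ s * u * s⁻¹ = u * z

theorem exists_nFour_aux (hT : IsPGroup 2 T) (hr : ¬ PRankLE 2 2 T) : ∃ V z u, NFour T V z u := by
  obtain ⟨U, hUn, hUe, hUc, -⟩ := Cfsg.Agent.S1337.result 2 hT hr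
  have hne : U ≠ ⊥ := by rintro rfl; simp at hUc
  obtain ⟨z, hzU, hz2, hzc⟩ := SigMisc.exists_mem_center_of_normal hT U hne
  have hK : IsKleinFour U := by
    refine ⟨hUc, ?_⟩
    have h1 : Monoid.exponent U ∣ 2 :=
      Monoid.exponent_dvd_of_forall_pow_eq_one fun x => Subtype.ext (hUe.2 x x.2)
    rcases (Nat.dvd_prime Nat.prime_two).1 h1 with h | h
    · exfalso
      have := Monoid.pow_exponent_eq_one (⟨z, hzU⟩ : U)
      rw [h, pow_one] at this
      exact ne_one_of_orderOf_two hz2 (congrArg Subtype.val this)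
    · exact h
  obtain ⟨u, huU, hu1, huz⟩ : ∃ u ∈ U, u ≠ 1 ∧ z ≠ u := by
    obtain ⟨a, b, hab⟩ := exists_isFourData hK
    by_cases h : z = a
    · exact ⟨b, hab.b_mem, hab.b_ne, h ▸ hab.ne⟩
    · exact ⟨a, hab.a_mem, hab.a_ne, h⟩
  have hd := isFourData_of_isKleinFour hK hzU huU (ne_one_of_orderOf_two hz2) hu1 huz
  refine ⟨U.map T.subtype, z, u, hd.map T.subtype T.subtype_injective, z.2, u.2, fun s hs => ?_,
    fun s hs => ?_⟩
  · exact mem_cent1.2 (congrArg Subtype.val (mem_center_iff.1 hzc ⟨s, hs⟩))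
  · rcases (hd.mem _).1 (hUn.conj_mem u huU ⟨s, hs⟩) with h | h | h | h
    · exact absurd (by simpa using h) hu1
    · exfalso
      apply huz
      have h2 := mem_center_iff.1 hzc ⟨s, hs⟩⁻¹
      calc z = ⟨s, hs⟩⁻¹ * z * ⟨s, hs⟩ := by rw [h2]; group
        _ = u := by rw [← h]; group
    · exact Or.inl (congrArg Subtype.val h)
    · right
      rw [hd.comm] at h
      exact congrArg Subtype.val h

/-- A central involution of a `2`-group of rank at least `3` lies in a normal four-group. -/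
theorem exists_nFour (hT : IsPGroup 2 T) (hr : ¬ PRankLE 2 2 T) (ht : orderOf t = 2) (htT : t ∈ T)
    (hc : T ≤ 𝐂₁(t)) : ∃ V u, NFour T V t u := by
  obtain ⟨V, z, u, h⟩ := exists_nFour_aux hT hr
  by_cases hz : t = z
  · exact ⟨V, u, hz ▸ h⟩
  · refine ⟨_, z, isFourData_closure (sq_of_orderOf_two ht) h.four.a_sq
      (mem_cent1.1 (h.cent htT)) (ne_one_of_orderOf_two ht) h.four.a_ne hz, htT, h.z_mem, hc,
      fun s hs => Or.inl ?_⟩
    rw [mem_cent1.1 (h.cent hs), mul_inv_cancel_right]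

namespace NFour

variable (h : NFour S U z u)
include h

theorem le : U ≤ S := four_le h.four h.z_mem h.u_mem

theorem conj_z (hs : s ∈ S) : s * z * s⁻¹ = z := by
  rw [mem_cent1.1 (h.cent hs), mul_inv_cancel_right]

theorem swap : NFour S U z (u * z) where
  four := four_swap h.four
  z_mem := h.z_mem
  u_mem := mul_mem h.u_mem h.z_mem
  cent := h.cent
  act s hs := by
    have e : s * (u * z) * s⁻¹ = (s * u * s⁻¹) * (s * z * s⁻¹) := by group
    rw [e, h.conj_z hs]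
    rcases h.act s hs with h1 | h1 <;> rw [h1] <;> simp

theorem conj_u (hs : s ∈ S) (hn : s ∉ 𝐂₁(u)) : s * u * s⁻¹ = u * z :=
  (h.act s hs).resolve_left fun e => hn (mem_cent1.2 (mul_inv_eq_iff_eq_mul.1 e))

theorem mul_mem_cent {s' : G} (hs : s ∈ S) (hn : s ∉ 𝐂₁(u)) (hs' : s' ∈ S) (hn' : s' ∉ 𝐂₁(u)) :
    s * s' ∈ 𝐂₁(u) := by
  rw [mem_cent1, ← mul_inv_eq_iff_eq_mul]
  have e : s * s' * u * (s * s')⁻¹ = s * (s' * u * s'⁻¹) * s⁻¹ := by group
  have e2 : s * (u * z) * s⁻¹ = (s * u * s⁻¹) * (s * z * s⁻¹) := by group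
  rw [e, h.conj_u hs' hn', e2, h.conj_u hs hn, h.conj_z hs, mul_assoc, h.four.a_sq, mul_one]

theorem sq_mem_cent (hs : s ∈ S) : s * s ∈ 𝐂₁(u) := by
  by_cases hn : s ∈ 𝐂₁(u)
  · exact mul_mem hn hn
  · exact h.mul_mem_cent hs hn hs hn

theorem relIndex_le (hH : H ≤ S) : (𝐂₁(u)).relIndex H ≤ 2 := by
  refine Nat.le_of_dvd two_pos (relIndex_dvd_two_iff.2 ?_)
  by_cases hc : H ≤ 𝐂₁(u)
  · exact ⟨1, one_mem _, fun b hb => Or.inr (hc hb)⟩
  · obtain ⟨a, ha, hn⟩ := SetLike.not_le_iff_exists.1 hc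
    refine ⟨a, ha, fun b hb => ?_⟩
    by_cases hb' : b ∈ 𝐂₁(u)
    · exact Or.inr hb'
    · exact Or.inl (h.mul_mem_cent (hH hb) hb' (hH ha) hn)

theorem inf_le_cent : S ⊓ 𝐂₁(u) ≤ 𝐂(U) := fun g hg =>
  h.four.mem_centralizer_iff.2 ⟨(mem_cent1.1 (h.cent hg.1)).symm, (mem_cent1.1 hg.2).symm⟩

theorem z_mem_cent : z ∈ 𝐂₁(u) := mem_cent1.2 h.four.comm

theorem commutator_u {q : G} (hq : q ∈ S) : u * q * u⁻¹ * q⁻¹ = 1 ∨ u * q * u⁻¹ * q⁻¹ = z := by
  have e : u * q * u⁻¹ * q⁻¹ = u * (q * u * q⁻¹)⁻¹ := by group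
  rw [e]
  rcases h.act q hq with h1 | h1 <;> rw [h1]
  · left; simp
  · right
    rw [← h.four.comm, mul_inv_rev, mul_inv_cancel_left]
    exact inv_eq_of_mul_eq_one_right h.four.a_sq

/-- An involution `s` of `S` is isolated if `C_S(s)` has rank at most `2`. -/
theorem not_mem_cent_of_isolated (hr : ¬ PRankLE 2 2 S) (hs : s ∈ S) (hs2 : orderOf s = 2)
    (hi : PRankLE 2 2 ↥(S ⊓ 𝐂₁(s))) : s ∉ 𝐂₁(u) := by
  intro hn
  have hsU : U ≤ 𝐂₁(s) := le_cent1_iff.2 (h.inf_le_cent ⟨hs, hn⟩)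
  have h1 : s ∈ U := mem_four_of_rank hi h.four (le_inf h.le hsU) ⟨hs, mem_cent1_self s⟩
    (sq_of_orderOf_two hs2) (mem_cent1.1 (h.cent hs)).symm (mem_cent1.1 hn).symm
  obtain ⟨A, hA⟩ := exists_elemN_of_le_pRank Nat.prime_two
    ((lt_pRank_iff Nat.prime_two).2 hr : 3 ≤ _)
  obtain ⟨m, hm, hB⟩ := hA.exists_inf_of_relIndex_le Nat.prime_two (k := 1) (K := 𝐂₁(u))
    (h.relIndex_le le_rfl)
  have hBU : 𝐂₁(u) ⊓ A ≤ U := fun e he => by
    have heS : e ∈ S ⊓ 𝐂₁(u) := ⟨hA.le he.2, he.1⟩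
    exact mem_four_of_rank hi h.four (le_inf h.le hsU)
      ⟨heS.1, cent_le_cent1 h1 (h.inf_le_cent heS)⟩
      (by rw [← pow_two]; exact hA.pow_eq_one he.2) (mem_cent1.1 (h.cent heS.1)).symm
      (mem_cent1.1 he.1).symm
  have hm2 : m = 2 := by
    have := hB.le_of_le (four_elemN h.four) Nat.prime_two hBU
    omega
  subst hm2
  have hUA : U ≤ A := (hB.eq_of_le (four_elemN h.four) hBU).ge.trans inf_le_right
  have := (hA.of_le (le_inf hA.le (hA.le_cent1 (hUA h1)))).le_pRank Nat.prime_two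
  have := (pRank_le_iff Nat.prime_two).2 hi
  omega

/-- If `S` has an isolated involution, the involutions of `Z(C_S(U))` lie in `U`. -/
theorem mem_of_central (hs : s ∈ S) (hs2 : orderOf s = 2) (hi : PRankLE 2 2 ↥(S ⊓ 𝐂₁(s)))
    (hn : s ∉ 𝐂₁(u)) (he : e ∈ S ⊓ 𝐂₁(u)) (he2 : e * e = 1) (hc : S ⊓ 𝐂₁(u) ≤ 𝐂₁(e)) :
    e ∈ U := by
  have hzs : z ≠ s := fun e => hn (e ▸ h.z_mem_cent)
  have hV := isFourData_closure h.four.a_sq (sq_of_orderOf_two hs2)
    (mem_cent1.1 (h.cent hs)).symm h.four.a_ne (ne_one_of_orderOf_two hs2) hzs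
  have key : ∀ x ∈ S ⊓ 𝐂₁(u), x * x = 1 → s * x * s⁻¹ = x → x = 1 ∨ x = z := by
    intro x hx hx2 hsx
    have hsx' : s * x = x * s := mul_inv_eq_iff_eq_mul.1 hsx
    have := mem_four_of_rank hi hV (four_le hV ⟨h.z_mem, mem_cent1_comm.1 (h.cent hs)⟩
      ⟨hs, mem_cent1_self s⟩) ⟨hx.1, mem_cent1.2 hsx'.symm⟩ hx2
      (mem_cent1.1 (h.cent hx.1)).symm hsx'
    rcases (hV.mem x).1 this with h1 | h1 | h1 | h1
    · exact Or.inl h1
    · exact Or.inr h1
    · exact absurd (h1 ▸ hx.2) hn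
    · exact absurd ((mul_mem_cancel_left h.z_mem_cent).1 (h1 ▸ hx.2)) hn
  have hss := sq_of_orderOf_two hs2
  have hsi : s⁻¹ = s := inv_eq_of_mul_eq_one_right hss
  have he' : s * e * s⁻¹ ∈ S ⊓ 𝐂₁(u) := by
    refine mem_inf.2 ⟨mul_mem (mul_mem hs (mem_inf.1 he).1) (inv_mem hs), ?_⟩
    rw [hsi, mul_assoc]
    exact h.mul_mem_cent hs hn (mul_mem (mem_inf.1 he).1 hs)
      fun h1 => hn ((mul_mem_cancel_left (mem_inf.1 he).2).1 h1)
  have hcomm : s * e * s⁻¹ * e = e * (s * e * s⁻¹) := mem_cent1.1 (hc he')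
  have hee : s * e * s⁻¹ * (s * e * s⁻¹) = 1 := by
    calc s * e * s⁻¹ * (s * e * s⁻¹) = s * (e * e) * s⁻¹ := by group
      _ = 1 := by rw [he2]; group
  have h1 := key (e * (s * e * s⁻¹)) (mul_mem he he') (by
      calc e * (s * e * s⁻¹) * (e * (s * e * s⁻¹)) = e * (s * e * s⁻¹ * e) * (s * e * s⁻¹) := by group
        _ = (e * e) * (s * e * s⁻¹ * (s * e * s⁻¹)) := by rw [hcomm]; group
        _ = 1 := by rw [he2, hee, one_mul]) (by
      calc s * (e * (s * e * s⁻¹)) * s⁻¹ = s * e * s⁻¹ * ((s * s) * e * (s * s)⁻¹) := by group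
        _ = e * (s * e * s⁻¹) := by rw [hss, ← hcomm]; group)
  have hei : e⁻¹ = e := inv_eq_of_mul_eq_one_right he2
  rcases h1 with h1 | h1
  · have h2 : s * e * s⁻¹ = e := by rw [eq_inv_of_mul_eq_one_right h1, hei]
    rcases key e he he2 h2 with rfl | rfl
    exacts [one_mem _, h.four.a_mem]
  · have h2 : s * e * s⁻¹ = e * z := by rw [← h1, ← mul_assoc, he2, one_mul]
    have heu : e * u = u * e := mem_cent1.1 he.2
    have h3 := key (e * u) (mul_mem he ⟨h.u_mem, mem_cent1_self u⟩) (by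
        calc e * u * (e * u) = e * (u * e) * u := by group
          _ = (e * e) * (u * u) := by rw [← heu]; group
          _ = 1 := by rw [he2, h.four.b_sq, one_mul]) (by
        calc s * (e * u) * s⁻¹ = (s * e * s⁻¹) * (s * u * s⁻¹) := by group
          _ = e * (z * u) * z := by rw [h2, h.conj_u hs hn]; group
          _ = e * u * (z * z) := by rw [h.four.comm]; group
          _ = e * u := by rw [h.four.a_sq, mul_one])
    rw [← mul_mem_cancel_right h.four.b_mem]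
    rcases h3 with h3 | h3 <;> rw [h3]
    exacts [one_mem _, h.four.a_mem]

end NFour

/-- A `2`-group with a self-centralising four-group has rank at most `2`. -/
theorem pRankLE_of_selfCent (hS : IsPGroup 2 S) (h : IsFourData V a b) (hV : V ≤ S)
    (hc : S ⊓ 𝐂(V) ≤ V) : PRankLE 2 2 S := by
  by_contra hr
  obtain ⟨n, hn⟩ := hS.exists_card_eq
  have h3 : 3 ≤ n := ((lt_pRank_iff Nat.prime_two).2 hr).trans_le
    (pRank_le_of_card_eq Nat.prime_two hn)
  have hcl := Cfsg.Agent.S0112.result (p := 2) n hn (V.subgroupOf S)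
    (by rw [Nat.card_congr (subgroupOfEquivOfLe hV).toEquiv, h.card_eq]; rfl) (by
      ext x
      rw [mem_subgroupOf, mem_centralizer_iff]
      constructor
      · intro hx
        exact hc ⟨x.2, mem_cent.2 fun v hv => congrArg Subtype.val (hx ⟨v, hV hv⟩ hv)⟩
      · intro hx y hy
        exact Subtype.ext (mem_cent.1 ((four_elemN h).le_cent hx) y hy))
  obtain ⟨C, hC, hi⟩ := Cfsg.Agent.S0113.result n h3 hn hcl
  have h1 := pRank_le_succ_of_relIndex_eq (K := C) (H := ⊤) Nat.prime_two le_top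
    (by rwa [relIndex_top_right])
  have h2 := pRank_le_one_of_isCyclic Nat.prime_two hC
  exact hr ((pRank_top_le_iff Nat.prime_two).1 (by omega))

end CL.Sig
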